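import Mathlib

/-!
# A four-group acting on a group of odd order

For commuting involutory automorphisms `σ`, `τ` of a group `W` of odd order,
`|W| |C_W(σ, τ)|² = |C_W(σ)| |C_W(τ)| |C_W(στ)|`.
-/

set_option autoImplicit false
set_option linter.style.haveILetI false
set_option linter.unusedSectionVars false

namespace CfsgLib.CentFour

open Subgroup

section Abstract

variable {W : Type*} [Group W] [Finite W]

/-- The square root in a group of odd order. -/
noncomputable def root (w : W) : W := w ^ ((Nat.card W + 1) / 2)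

theorem root_mul_root (h : Odd (Nat.card W)) (w : W) : root w * root w = w := by
  obtain ⟨k, hk⟩ := h
  rw [root, ← pow_add, show (Nat.card W + 1) / 2 + (Nat.card W + 1) / 2 = Nat.card W + 1 by omega,
    pow_succ, pow_card_eq_one', one_mul]

theorem root_eq (h : Odd (Nat.card W)) {w v : W} (e : v * v = w) : root w = v := by
  obtain ⟨k, hk⟩ := h
  subst e
  rw [root, ← sq, ← pow_mul, show 2 * ((Nat.card W + 1) / 2) = Nat.card W + 1 by omega,
    pow_succ, pow_card_eq_one', one_mul]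

theorem root_inv (w : W) : root w⁻¹ = (root w)⁻¹ := inv_pow _ _

theorem root_map (φ : W ≃* W) (w : W) : φ (root w) = root (φ w) := map_pow φ _ _

theorem root_conj (c w : W) : root (c * w * c⁻¹) = c * root w * c⁻¹ := conj_pow

/-- The elements inverted by an automorphism. -/
abbrev InvBy (τ : W ≃* W) : Type _ := {u : W // τ u = u⁻¹}

/-- The elements fixed by an automorphism. -/
abbrev FixBy (τ : W ≃* W) : Type _ := {u : W // τ u = u}

theorem card_eq_fix_mul_inv (h : Odd (Nat.card W)) (τ : W ≃* W) (hτ : ∀ w, τ (τ w) = w) :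
    Nat.card W = Nat.card (FixBy τ) * Nat.card (InvBy τ) := by
  have hi : ∀ w : W, τ (root ((τ w)⁻¹ * w)) = (root ((τ w)⁻¹ * w))⁻¹ := fun w => by
    rw [root_map, ← root_inv, map_mul, map_inv, hτ, mul_inv_rev, inv_inv]
  have hf : ∀ w : W, τ (w * (root ((τ w)⁻¹ * w))⁻¹) = w * (root ((τ w)⁻¹ * w))⁻¹ := fun w => by
    rw [map_mul, map_inv, hi, inv_inv]
    have e := root_mul_root h ((τ w)⁻¹ * w)
    calc τ w * root ((τ w)⁻¹ * w)
        = τ w * (root ((τ w)⁻¹ * w) * root ((τ w)⁻¹ * w)) * (root ((τ w)⁻¹ * w))⁻¹ := by group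
      _ = _ := by rw [e, mul_inv_cancel_left]
  rw [← Nat.card_prod]
  refine Nat.card_congr
    { toFun := fun w => (⟨_, hf w⟩, ⟨_, hi w⟩)
      invFun := fun p => p.1.1 * p.2.1
      left_inv := fun w => inv_mul_cancel_right _ _
      right_inv := ?_ }
  rintro ⟨⟨c, hc⟩, ⟨j, hj⟩⟩
  have e : root ((τ (c * j))⁻¹ * (c * j)) = j := root_eq h (by rw [map_mul, hc, hj]; group)
  refine Prod.ext (Subtype.ext ?_) (Subtype.ext ?_)
  · show c * j * (root ((τ (c * j))⁻¹ * (c * j)))⁻¹ = c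
    rw [e, mul_inv_cancel_right]
  · exact e

theorem card_inv_eq (h : Odd (Nat.card W)) (σ τ : W ≃* W) (hσ : ∀ w, σ (σ w) = w)
    (hc : ∀ w, σ (τ w) = τ (σ w)) :
    Nat.card (InvBy τ) = Nat.card {u : W // σ u = u ∧ τ u = u⁻¹} *
      Nat.card {u : W // σ u = u⁻¹ ∧ τ u = u⁻¹} := by
  -- the square of the factor inverted by both
  let e : W → W := fun u => root (u * σ u) * (σ u)⁻¹
  have hroot : ∀ u : W, root (σ u * u) = σ u * root (u * σ u) * (σ u)⁻¹ := fun u => by
    rw [← root_conj]; congr 1; group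
  have hsq : ∀ u : W, root (u * σ u) * root (u * σ u) = u * σ u := fun u => root_mul_root h _
  have hσe : ∀ u : W, σ (e u) = (e u)⁻¹ := fun u => by
    show σ (root (u * σ u) * (σ u)⁻¹) = (root (u * σ u) * (σ u)⁻¹)⁻¹
    rw [map_mul, root_map, map_mul, map_inv, hσ, hroot, mul_inv_rev, inv_inv]
    have hU : (σ u)⁻¹ * u⁻¹ = (root (u * σ u))⁻¹ * (root (u * σ u))⁻¹ := by
      rw [← mul_inv_rev, ← mul_inv_rev, hsq]
    calc σ u * root (u * σ u) * (σ u)⁻¹ * u⁻¹
        = σ u * root (u * σ u) * ((σ u)⁻¹ * u⁻¹) := by group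
      _ = _ := by rw [hU]; group
  have hτe : ∀ u : W, τ u = u⁻¹ → τ (e u) = (e u)⁻¹ := fun u hu => by
    show τ (root (u * σ u) * (σ u)⁻¹) = (root (u * σ u) * (σ u)⁻¹)⁻¹
    have h1 : τ (σ u) = (σ u)⁻¹ := by rw [← hc, hu, map_inv]
    rw [map_mul, root_map, map_mul, map_inv, h1, hu, inv_inv, mul_inv_rev, inv_inv,
      show u⁻¹ * (σ u)⁻¹ = (σ u * u)⁻¹ from (mul_inv_rev _ _).symm, root_inv, hroot]
    group
  have hkey : ∀ u : W, e u * σ u * e u = u := fun u => by
    show root (u * σ u) * (σ u)⁻¹ * σ u * (root (u * σ u) * (σ u)⁻¹) = u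
    rw [inv_mul_cancel_right, ← mul_assoc, hsq, mul_inv_cancel_right]
  have hj1 : ∀ u : W, σ (root (e u)) = (root (e u))⁻¹ := fun u => by
    rw [root_map, hσe, root_inv]
  have hj2 : ∀ u : W, τ u = u⁻¹ → τ (root (e u)) = (root (e u))⁻¹ := fun u hu => by
    rw [root_map, hτe u hu, root_inv]
  have hh1 : ∀ u : W, σ ((root (e u))⁻¹ * u * (root (e u))⁻¹) =
      (root (e u))⁻¹ * u * (root (e u))⁻¹ := fun u => by
    rw [map_mul, map_mul, map_inv, hj1, inv_inv]
    calc root (e u) * σ u * root (e u)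
        = (root (e u))⁻¹ * ((root (e u) * root (e u)) * σ u * (root (e u) * root (e u))) *
            (root (e u))⁻¹ := by group
      _ = _ := by rw [root_mul_root h, hkey]
  have hh2 : ∀ u : W, τ u = u⁻¹ → τ ((root (e u))⁻¹ * u * (root (e u))⁻¹) =
      ((root (e u))⁻¹ * u * (root (e u))⁻¹)⁻¹ := fun u hu => by
    rw [map_mul, map_mul, map_inv, hj2 u hu, hu, inv_inv]
    group
  rw [← Nat.card_prod]
  refine Nat.card_congr
    { toFun := fun u => (⟨_, hh1 u.1, hh2 u.1 u.2⟩, ⟨root (e u.1), hj1 u.1, hj2 u.1 u.2⟩)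
      invFun := fun p => ⟨p.2.1 * p.1.1 * p.2.1, by
        rw [map_mul, map_mul, p.2.2.2, p.1.2.2]; group⟩
      left_inv := fun u => Subtype.ext (by group)
      right_inv := ?_ }
  rintro ⟨⟨c, hc1, -⟩, ⟨j, hj, -⟩⟩
  have hu : σ (j * c * j) = j⁻¹ * c * j⁻¹ := by rw [map_mul, map_mul, hj, hc1]
  have hs : root (j * c * j * σ (j * c * j)) = j * c * j⁻¹ := root_eq h (by rw [hu]; group)
  have he : root (e (j * c * j)) = j := root_eq h (by
    show j * j = root (j * c * j * σ (j * c * j)) * (σ (j * c * j))⁻¹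
    rw [hs, hu]; group)
  refine Prod.ext (Subtype.ext ?_) (Subtype.ext he)
  show (root (e (j * c * j)))⁻¹ * (j * c * j) * (root (e (j * c * j)))⁻¹ = c
  rw [he]; group

/-- The fixed point formula for a four-group acting on a group of odd order. -/
theorem four_formula (h : Odd (Nat.card W)) (σ τ : W ≃* W) (hσ : ∀ w, σ (σ w) = w)
    (hτ : ∀ w, τ (τ w) = w) (hc : ∀ w, σ (τ w) = τ (σ w)) :
    Nat.card W * Nat.card {u : W // σ u = u ∧ τ u = u} ^ 2 =
      Nat.card (FixBy σ) * Nat.card (FixBy τ) * Nat.card {u : W // σ (τ u) = u} := by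
  -- a fixed subgroup splits under the other automorphism
  have split : ∀ ρ : W ≃* W, (∀ w, ρ (τ w) = τ (ρ w)) → Nat.card (FixBy ρ) =
      Nat.card {u : W // ρ u = u ∧ τ u = u} * Nat.card {u : W // ρ u = u ∧ τ u = u⁻¹} := by
    intro ρ hρ
    let F : Subgroup W := MonoidHom.eqLocus ρ.toMonoidHom (MonoidHom.id W)
    have hmem : ∀ u, u ∈ F ↔ ρ u = u := fun u => Iff.rfl
    have hτF : ∀ u ∈ F, τ u ∈ F := fun u hu => (hmem _).2 (by rw [hρ, (hmem u).1 hu])
    let τF : F ≃* F :=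
      { toFun := fun u => ⟨τ u, hτF u u.2⟩
        invFun := fun u => ⟨τ u, hτF u u.2⟩
        left_inv := fun u => Subtype.ext (hτ u)
        right_inv := fun u => Subtype.ext (hτ u)
        map_mul' := fun u v => Subtype.ext (map_mul τ _ _) }
    have hodd : Odd (Nat.card F) := h.of_dvd_nat (Subgroup.card_subgroup_dvd_card F)
    have e := card_eq_fix_mul_inv hodd τF fun u => Subtype.ext (hτ u)
    have e1 : Nat.card F = Nat.card (FixBy ρ) := rfl
    rw [← e1, e]
    congr 1 <;>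
    exact Nat.card_congr
      { toFun := fun u => ⟨u.1.1, u.1.2, congrArg Subtype.val u.2⟩
        invFun := fun u => ⟨⟨u.1, u.2.1⟩, Subtype.ext u.2.2⟩
        left_inv := fun u => rfl
        right_inv := fun u => rfl }
  have h1 := split σ hc
  have h2 := split (τ.trans σ) (fun w => by
    show σ (τ (τ w)) = τ (σ (τ w))
    rw [hτ, hc, hτ])
  have e0 : Nat.card {u : W // (τ.trans σ) u = u ∧ τ u = u} =
      Nat.card {u : W // σ u = u ∧ τ u = u} := Nat.card_congr (Equiv.subtypeEquivRight fun u => by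
    constructor
    · rintro ⟨a, b⟩
      exact ⟨by simpa [MulEquiv.trans_apply, b] using a, b⟩
    · rintro ⟨a, b⟩
      exact ⟨by simp [MulEquiv.trans_apply, b, a], b⟩)
  have e3 : Nat.card {u : W // (τ.trans σ) u = u ∧ τ u = u⁻¹} =
      Nat.card {u : W // σ u = u⁻¹ ∧ τ u = u⁻¹} := Nat.card_congr (Equiv.subtypeEquivRight fun u => by
    constructor
    · rintro ⟨a, b⟩
      exact ⟨inv_eq_iff_eq_inv.1 (by simpa [MulEquiv.trans_apply, b] using a), b⟩
    · rintro ⟨a, b⟩
      exact ⟨by simp [MulEquiv.trans_apply, b, a], b⟩)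
  rw [e0, e3] at h2
  rw [card_eq_fix_mul_inv h τ hτ, card_inv_eq h σ τ hσ hc, show
    Nat.card {u : W // σ (τ u) = u} = Nat.card (FixBy (τ.trans σ)) from rfl, h1, h2]
  ring

end Abstract

section InGroup

variable {G : Type*} [Group G] [Finite G]

/-- Conjugation by a normalizing element. -/
def conjEquiv (W : Subgroup G) (z : G) (hz : z * z = 1) (hzW : ∀ w ∈ W, z * w * z⁻¹ ∈ W) :
    W ≃* W where
  toFun w := ⟨z * w * z⁻¹, hzW w w.2⟩
  invFun w := ⟨z * w * z⁻¹, hzW w w.2⟩
  left_inv w := Subtype.ext (by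
    show z * (z * w * z⁻¹) * z⁻¹ = (w : G)
    rw [show z⁻¹ = z from inv_eq_of_mul_eq_one_right hz]
    rw [show z * (z * (w : G) * z) * z = (z * z) * w * (z * z) by group, hz, one_mul, mul_one])
  right_inv w := Subtype.ext (by
    show z * (z * w * z⁻¹) * z⁻¹ = (w : G)
    rw [show z⁻¹ = z from inv_eq_of_mul_eq_one_right hz]
    rw [show z * (z * (w : G) * z) * z = (z * z) * w * (z * z) by group, hz, one_mul, mul_one])
  map_mul' u v := Subtype.ext (by
    show z * ((u : G) * v) * z⁻¹ = z * u * z⁻¹ * (z * v * z⁻¹)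
    group)

theorem conjEquiv_conjEquiv (W : Subgroup G) (z : G) (hz : z * z = 1)
    (hzW : ∀ w ∈ W, z * w * z⁻¹ ∈ W) (w : W) :
    conjEquiv W z hz hzW (conjEquiv W z hz hzW w) = w := (conjEquiv W z hz hzW).left_inv w

theorem conjEquiv_eq_self (W : Subgroup G) (z : G) (hz : z * z = 1)
    (hzW : ∀ w ∈ W, z * w * z⁻¹ ∈ W) (w : W) :
    conjEquiv W z hz hzW w = w ↔ (w : G) ∈ centralizer ({z} : Set G) := by
  rw [mem_centralizer_singleton_iff, Subtype.ext_iff]
  show z * w * z⁻¹ = (w : G) ↔ (w : G) * z = z * w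
  rw [mul_inv_eq_iff_eq_mul]
  exact eq_comm

/-- The fixed point formula for a four-group `{1, z, r, zr}` normalizing `W`. -/
theorem four_formula_subgroup (W : Subgroup G) (hW : Odd (Nat.card W)) {z r : G} (hz : z * z = 1)
    (hr : r * r = 1) (hzr : Commute z r) (hzW : ∀ w ∈ W, z * w * z⁻¹ ∈ W)
    (hrW : ∀ w ∈ W, r * w * r⁻¹ ∈ W) :
    Nat.card W * Nat.card (W ⊓ centralizer ({z, r} : Set G) : Subgroup G) ^ 2 =
      Nat.card (W ⊓ centralizer ({z} : Set G) : Subgroup G) *
        Nat.card (W ⊓ centralizer ({r} : Set G) : Subgroup G) *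
        Nat.card (W ⊓ centralizer ({z * r} : Set G) : Subgroup G) := by
  set σ := conjEquiv W z hz hzW
  set τ := conjEquiv W r hr hrW
  have hst : ∀ w : W, (σ (τ w) : G) = z * r * w * (z * r)⁻¹ := fun w => by
    show z * (r * w * r⁻¹) * z⁻¹ = z * r * w * (z * r)⁻¹
    group
  have key := four_formula hW σ τ (conjEquiv_conjEquiv W z hz hzW) (conjEquiv_conjEquiv W r hr hrW)
    fun w => Subtype.ext (by
      rw [hst]
      show z * r * w * (z * r)⁻¹ = r * (z * w * z⁻¹) * r⁻¹
      rw [hzr.eq]; group)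
  have e : ∀ (S : Set G) (p : W → Prop), (∀ w : W, p w ↔ (w : G) ∈ centralizer S) →
      Nat.card {u : W // p u} = Nat.card (W ⊓ centralizer S : Subgroup G) := fun S p hp =>
    Nat.card_congr
      { toFun := fun u => ⟨u.1.1, u.1.2, (hp _).1 u.2⟩
        invFun := fun u => ⟨⟨u.1, u.2.1⟩, (hp _).2 u.2.2⟩
        left_inv := fun u => rfl
        right_inv := fun u => rfl }
  rw [← e {z, r} (fun u => σ u = u ∧ τ u = u) fun w => by
        rw [conjEquiv_eq_self, conjEquiv_eq_self]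
        simp [mem_centralizer_iff],
    ← e {z} (fun u => σ u = u) fun w => conjEquiv_eq_self W z hz hzW w,
    ← e {r} (fun u => τ u = u) fun w => conjEquiv_eq_self W r hr hrW w,
    ← e {z * r} (fun u => σ (τ u) = u) fun w => by
      rw [Subtype.ext_iff, hst, mem_centralizer_singleton_iff, mul_inv_eq_iff_eq_mul]
      exact eq_comm]
  exact key

/-- An automorphism of order two of an odd order subgroup fixing only `1` inverts it. -/
theorem conj_eq_inv_of_fpf (W : Subgroup G) (hW : Odd (Nat.card W)) {z : G} (hz : z * z = 1)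
    (hzW : ∀ w ∈ W, z * w * z⁻¹ ∈ W) (hfix : ∀ w ∈ W, Commute z w → w = 1) :
    ∀ w ∈ W, z * w * z⁻¹ = w⁻¹ := by
  set σ := conjEquiv W z hz hzW
  have h1 : Nat.card (FixBy σ) = 1 := by
    rw [Nat.card_eq_one_iff_unique]
    refine ⟨⟨fun a b => ?_⟩, ⟨⟨1, map_one σ⟩⟩⟩
    have key : ∀ c : FixBy σ, c.1 = 1 := fun c => Subtype.ext (hfix _ c.1.2 <| by
      have := (conjEquiv_eq_self W z hz hzW c.1).1 c.2
      exact (mem_centralizer_singleton_iff.1 this).symm)
    exact Subtype.ext ((key a).trans (key b).symm)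
  have h2 := card_eq_fix_mul_inv hW σ (conjEquiv_conjEquiv W z hz hzW)
  rw [h1, one_mul] at h2
  intro w hw
  have hsurj : Function.Surjective (Subtype.val : InvBy σ → W) :=
    ((Nat.bijective_iff_injective_and_card _).2 ⟨Subtype.val_injective, h2.symm⟩).2
  obtain ⟨⟨u, hu⟩, rfl⟩ := hsurj ⟨w, hw⟩
  exact congrArg Subtype.val hu

end InGroup

end CfsgLib.CentFour
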