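import Mathlib

/-!
# The degree arithmetic for an element of order four with centralizer of order four

The only solutions of the divisibility condition coming from the principal block are those of
`A₇` and of a configuration of order `7560`.
-/

set_option autoImplicit false

namespace CfsgLib.CentFour

/-- The divisibility condition for one set of parameters. -/
def Hit (t σ M : ℕ) (p : Bool) : Prop :=
  ((cond p 1 (-1) * (8 * (t * M : ℕ) + cond p 1 (-1)) *
      (4 * (t * M : ℕ) + cond p 1 (-1)) ^ 2 * (σ : ℤ) ^ 2) %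
    ((4 * (t * M : ℕ) + cond p 1 (-1)) ^ 2 * (σ : ℤ) ^ 2 -
      16 * (M : ℤ) ^ 2 * ((2 * t * σ - 1 : ℕ) : ℤ)) = 0) ∧ Nat.gcd M σ = 1 ∧
    (2 * t * σ - 1) % (M * M) = 0 ∧ 2 ≤ t * σ ∧ σ % 2 = 1 ∧ M % 2 = 1

instance (t σ M : ℕ) (p : Bool) : Decidable (Hit t σ M p) := by unfold Hit; infer_instance

/-- The search over the square part of `b`. -/
def Inner (t σ : ℕ) : Prop :=
  ∀ M < (12 : ℕ), ∀ p : Bool, Hit t σ M p →
    (p = false ∧ t * M = 1 ∧ t * σ = 3) ∨ (p = false ∧ t * M = 2 ∧ t * σ = 2)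

instance (t σ : ℕ) : Decidable (Inner t σ) := by unfold Inner; infer_instance

/-- The finite search. -/
theorem arith_search : ∀ t < (71 : ℕ), ∀ σ < (71 / t + 1 : ℕ), Inner t σ := by
  decide +kernel

theorem bound_le {t σ M : ℕ} (ht : 0 < t) (hσ : 0 < σ) (hM : 0 < M) (hs : 2 ≤ t * σ)
    (hMb : M * M ≤ 2 * t * σ - 1) {δ : ℤ} (hδ : δ = 1 ∨ δ = -1)
    (h1 : (4 * (t * M : ℤ) + δ) ^ 2 * σ ^ 2 - 16 * M ^ 2 * (2 * t * σ - 1) ≤
      (8 * (t * M : ℤ) + δ) * (2 * M + δ * σ) ^ 2) :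
    (t * M ≤ 7 ∧ M ≤ 7) ∨ (t * σ ≤ 70 ∧ M ≤ 11) := by
  have ht' : (1 : ℤ) ≤ t := by exact_mod_cast ht
  have hσ' : (1 : ℤ) ≤ σ := by exact_mod_cast hσ
  have hM' : (1 : ℤ) ≤ M := by exact_mod_cast hM
  have hs' : (2 : ℤ) ≤ t * σ := by exact_mod_cast hs
  have hMb' : (M : ℤ) * M ≤ 2 * t * σ - 1 := by
    have e : M * M + 1 ≤ 2 * t * σ := by
      have : 2 * t * σ = 2 * (t * σ) := mul_assoc 2 t σ
      omega
    have : ((M * M + 1 : ℕ) : ℤ) ≤ ((2 * t * σ : ℕ) : ℤ) := by exact_mod_cast e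
    push_cast at this
    linarith
  have hu : (4 * (t * M : ℤ) - 1) ^ 2 ≤ (4 * (t * M : ℤ) + δ) ^ 2 := by
    rcases hδ with rfl | rfl
    · nlinarith
    · exact le_of_eq (by ring)
  have hX : 8 * (t * M : ℤ) + δ ≤ 9 * (t * M) := by rcases hδ with rfl | rfl <;> nlinarith
  have hX0 : 0 ≤ 8 * (t * M : ℤ) + δ := by rcases hδ with rfl | rfl <;> nlinarith
  have hw : (2 * M + δ * σ : ℤ) ^ 2 ≤ (2 * M + σ) ^ 2 := by
    rcases hδ with rfl | rfl <;> nlinarith
  have h2 : (4 * (t * M : ℤ) - 1) ^ 2 * σ ^ 2 - 16 * M ^ 2 * (2 * t * σ - 1) ≤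
      9 * (t * M) * (2 * M + σ) ^ 2 := by
    have a1 := mul_le_mul_of_nonneg_right hu (sq_nonneg (σ : ℤ))
    have a2 := mul_le_mul hX hw (sq_nonneg _) (by nlinarith)
    linarith
  have htM : (0 : ℤ) < t * M := by positivity
  have h3 : (σ : ℤ) * (16 * (t * M) * σ - 8 * σ - 32 * M) ≤ 9 * (2 * M + σ) ^ 2 := by
    refine le_of_mul_le_mul_left ?_ htM
    linarith [sq_nonneg (σ : ℤ), sq_nonneg (M : ℤ)]
  rcases Nat.lt_or_ge σ M with hlt | hge
  · right
    have hlt' : (0 : ℤ) ≤ M - σ := by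
      have : (σ : ℤ) ≤ M := by exact_mod_cast hlt.le
      linarith
    have q1 := mul_nonneg hlt' (show (0 : ℤ) ≤ σ by linarith)
    have q2 := mul_nonneg hlt' (show (0 : ℤ) ≤ M by linarith)
    have h4 : (σ : ℤ) * M * (16 * (t * σ) - 40) ≤ 81 * (M * M) := by linarith
    have h5 : (σ : ℤ) * (16 * (t * σ) - 40) ≤ 81 * M := le_of_mul_le_mul_left
      (by linarith [h4] : (M : ℤ) * ((σ : ℤ) * (16 * (t * σ) - 40)) ≤ M * (81 * M)) (by linarith)
    have h6 : (t : ℤ) * σ ≤ 70 := by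
      by_contra hc
      push Not at hc
      have q3 := mul_nonneg (show (0 : ℤ) ≤ σ - 1 by linarith)
        (show (0 : ℤ) ≤ 16 * (t * σ : ℤ) - 40 by linarith)
      have h7 : (16 * (t * σ : ℤ) - 40) ≤ 81 * M := by linarith
      have h8 := mul_le_mul h7 h7 (by linarith) (by linarith)
      have q4 := sq_nonneg ((t * σ : ℤ) - 71)
      linarith
    refine ⟨by exact_mod_cast h6, ?_⟩
    have h12 : (M : ℤ) ≤ 11 := by
      by_contra hc
      push Not at hc
      have := mul_le_mul (show (12 : ℤ) ≤ M by linarith) (show (12 : ℤ) ≤ M by linarith)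
        (by norm_num) (by linarith)
      linarith
    exact_mod_cast h12
  · left
    have hge' : (0 : ℤ) ≤ σ - M := by
      have : (M : ℤ) ≤ σ := by exact_mod_cast hge
      linarith
    have q1 := mul_nonneg hge' (show (0 : ℤ) ≤ σ by linarith)
    have q2 := mul_nonneg hge' (show (0 : ℤ) ≤ M by linarith)
    have h4 : (σ : ℤ) * σ * (16 * (t * M) - 40) ≤ σ * σ * 81 := by linarith
    have h5 : (16 * (t * M : ℤ) - 40) ≤ 81 := le_of_mul_le_mul_left h4 (by positivity)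
    have h6 : (t : ℤ) * M ≤ 7 := by linarith
    exact ⟨by exact_mod_cast h6, le_trans (Nat.le_mul_of_pos_left M ht) (by exact_mod_cast h6)⟩

/-- With `t * M` bounded, so is `t * σ`. -/
theorem bound_small {t σ M : ℕ} (ht : 0 < t) (hσ : 0 < σ) (hM : 0 < M) (hm : t * M ≤ 7)
    {δ : ℤ} (hδ : δ = 1 ∨ δ = -1)
    (h1 : (4 * (t * M : ℤ) + δ) ^ 2 * σ ^ 2 - 16 * M ^ 2 * (2 * t * σ - 1) ≤
      (8 * (t * M : ℤ) + δ) * (4 * (t * M : ℤ) + δ) ^ 2) :
    σ ≤ 10 := by
  have ht' : (1 : ℤ) ≤ t := by exact_mod_cast ht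
  have hM' : (1 : ℤ) ≤ M := by exact_mod_cast hM
  have hm' : (t : ℤ) * M ≤ 7 := by exact_mod_cast hm
  have hMm : (M : ℤ) ≤ t * M := by nlinarith
  by_contra hc
  push Not at hc
  have hσ' : (11 : ℤ) ≤ σ := by exact_mod_cast hc
  set u : ℤ := 4 * (t * M : ℤ) + δ with hu
  have hu3 : 3 * (t * M : ℤ) ≤ u := by rcases hδ with rfl | rfl <;> linarith
  have hu2 : 9 * (t * M : ℤ) * M ≤ u ^ 2 := by
    have q1 := mul_le_mul hu3 hu3 (by linarith) (by linarith)
    have q2 := mul_le_mul_of_nonneg_left hMm (show (0 : ℤ) ≤ t * M by linarith)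
    rw [sq]; linarith
  have hX : 8 * (t * M : ℤ) + δ ≤ 57 := by rcases hδ with rfl | rfl <;> linarith
  have k1 : 32 * ((t * M : ℤ) * M) * σ ≤ 4 * σ * u ^ 2 := by
    have q1 := mul_le_mul_of_nonneg_left hu2 (show (0 : ℤ) ≤ 4 * σ by linarith)
    have q2 : 0 ≤ (t * M : ℤ) * M * σ := by positivity
    linarith
  have k2 : (8 * (t * M : ℤ) + δ) * u ^ 2 ≤ 57 * u ^ 2 :=
    mul_le_mul_of_nonneg_right hX (sq_nonneg u)
  have hu0 : (0 : ℤ) < u ^ 2 := lt_of_lt_of_le (by positivity) hu2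
  have k3 : 4 * (σ : ℤ) + 57 < σ * σ := by
    have := mul_nonneg (show (0 : ℤ) ≤ σ - 11 by linarith) (show (0 : ℤ) ≤ σ + 7 by linarith)
    linarith
  have k4 := mul_lt_mul_of_pos_right k3 hu0
  have k5 := sq_nonneg (M : ℤ)
  linarith

/-- The arithmetic of the principal block. -/
theorem arith {b m s o : ℕ} {δ : ℤ} (hb : b + 1 = 2 * s) (hb3 : 2 ≤ b) (hδ : δ = 1 ∨ δ = -1)
    (ho : Odd o) (hm : 0 < m)
    (h1 : (o : ℤ) * m ^ 2 = b * s ^ 2 * (8 * m + δ) * (4 * m + δ))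
    (h2 : ((4 * m + δ) ^ 2 * s ^ 2 - 16 * m ^ 2 * b : ℤ) ∣
      δ * (8 * m + δ) * (4 * m + δ) ^ 2 * s ^ 2) :
    (δ = -1 ∧ b = 5 ∧ m = 1) ∨ (δ = -1 ∧ b = 3 ∧ m = 2) := by
  obtain ⟨M, σ, hco, hM0, hσ0⟩ := Nat.exists_coprime m s
  set t := Nat.gcd m s with ht
  have ht0 : 0 < t := Nat.gcd_pos_of_pos_left _ hm
  clear_value t
  clear ht
  subst hM0
  subst hσ0
  have hMpos : 0 < M := Nat.pos_of_ne_zero fun h => by simp [h] at hm
  have hσpos : 0 < σ := Nat.pos_of_ne_zero fun h => by simp [h] at hb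
  have hbo : Odd b := ⟨σ * t - 1, by omega⟩
  push_cast at h1 h2
  have h1' : (o : ℤ) * M ^ 2 = b * σ ^ 2 * (8 * (M * t) + δ) * (4 * (M * t) + δ) := by
    have ht' : ((t : ℤ)) ^ 2 ≠ 0 := pow_ne_zero _ (by exact_mod_cast ht0.ne')
    refine mul_right_cancel₀ ht' ?_
    linear_combination h1
  set X : ℤ := 8 * (M * t) + δ with hX
  set u : ℤ := 4 * (M * t) + δ with hu
  set E : ℤ := u ^ 2 * σ ^ 2 - 16 * M ^ 2 * b with hE
  have hXu : IsCoprime (M : ℤ) (X * u) := by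
    refine IsCoprime.mul_right ?_ ?_
    · rw [hX, show (8 : ℤ) * (M * t) + δ = δ + M * (8 * t) by ring,
        IsCoprime.add_mul_left_right_iff]
      rcases hδ with rfl | rfl
      · exact isCoprime_one_right
      · exact isCoprime_one_right.neg_right
    · rw [hu, show (4 : ℤ) * (M * t) + δ = δ + M * (4 * t) by ring,
        IsCoprime.add_mul_left_right_iff]
      rcases hδ with rfl | rfl
      · exact isCoprime_one_right
      · exact isCoprime_one_right.neg_right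
  have hMσ : IsCoprime (M : ℤ) (σ : ℤ) := Int.isCoprime_iff_nat_coprime.2 hco
  -- the square of `M` divides `b`
  have hMb : (M : ℤ) ^ 2 ∣ b := by
    refine ((hMσ.pow (m := 2) (n := 2)).mul_right (hXu.pow_left (m := 2))).dvd_of_dvd_mul_right ?_
    exact ⟨o, by linear_combination -h1'⟩
  have hMb' : M * M ∣ b := by
    rw [← Int.natCast_dvd_natCast]; push_cast; rwa [← sq]
  have hMo : Odd M := hbo.of_dvd_nat (dvd_trans (dvd_mul_right M M) hMb')
  have hσo : Odd σ := by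
    by_contra hev
    rw [Nat.not_odd_iff_even] at hev
    have h3 : Even ((b : ℤ) * σ ^ 2 * X * u) := by
      have : Even ((σ : ℤ) ^ 2) := ((Int.even_coe_nat σ).2 hev).pow_of_ne_zero two_ne_zero
      exact ((this.mul_left _).mul_right _).mul_right _
    rw [← h1'] at h3
    have h4 : Odd ((o : ℤ) * M ^ 2) :=
      ((Int.odd_coe_nat o).2 ho).mul (((Int.odd_coe_nat M).2 hMo).pow)
    exact Int.not_even_iff_odd.2 h4 h3
  -- the divisibility without the square of the common part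
  have h2' : E ∣ δ * X * u ^ 2 * σ ^ 2 := by
    have ht' : ((t : ℤ)) ^ 2 ≠ 0 := pow_ne_zero _ (by exact_mod_cast ht0.ne')
    obtain ⟨c, hc⟩ := h2
    exact ⟨c, mul_right_cancel₀ ht' (by linear_combination hc)⟩
  have hbσ : IsCoprime (b : ℤ) (σ : ℤ) := by
    have e : (b : ℤ) = -1 + σ * (2 * t) := by
      have : (b : ℤ) + 1 = 2 * (σ * t) := by exact_mod_cast hb
      linear_combination this
    rw [e, IsCoprime.add_mul_left_left_iff]
    exact isCoprime_one_left.neg_left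
  have hEσ : IsCoprime E (σ : ℤ) := by
    rw [hE, show u ^ 2 * (σ : ℤ) ^ 2 - 16 * M ^ 2 * b = -(16 * M ^ 2 * b) + σ * (u ^ 2 * σ) by ring,
      IsCoprime.add_mul_left_left_iff]
    refine ((IsCoprime.mul_left ?_ hMσ.pow_left).mul_left hbσ).neg_left
    have h16 : IsCoprime (2 : ℤ) σ := by
      rw [Int.prime_two.coprime_iff_not_dvd]
      exact_mod_cast Nat.two_dvd_ne_zero.2 (Nat.odd_iff.1 hσo)
    exact (h16.pow_left (m := 4))
  have h3 : E ∣ X * u ^ 2 := by
    have h4 : E ∣ δ * X * u ^ 2 := (hEσ.pow_right (n := 2)).dvd_of_dvd_mul_right h2'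
    rcases hδ with e | e <;> rw [e] at h4
    · simpa using h4
    · simpa [neg_mul, dvd_neg] using h4
  -- the common divisor of `E` and `u ^ 2` divides `w ^ 2`
  set w : ℤ := 2 * M + δ * σ with hw
  have h4 : E ∣ X * w ^ 2 := by
    have hg1 : (Int.gcd E (u ^ 2) : ℤ) ∣ 16 * M ^ 2 * b := by
      have e : (16 : ℤ) * M ^ 2 * b = u ^ 2 * σ ^ 2 - E := by rw [hE]; ring
      rw [e]
      exact dvd_sub ((Int.gcd_dvd_right _ _).mul_right _) (Int.gcd_dvd_left _ _)
    have hu16 : IsCoprime (16 * (M : ℤ) ^ 2) (u ^ 2) := by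
      refine IsCoprime.pow_right (IsCoprime.mul_left ?_ (IsCoprime.pow_left ?_))
      · have : IsCoprime (4 : ℤ) u := by
          rw [hu, show (4 : ℤ) * (M * t) + δ = δ + 4 * (M * t) by ring,
            IsCoprime.add_mul_left_right_iff]
          rcases hδ with rfl | rfl
          · exact isCoprime_one_right
          · exact isCoprime_one_right.neg_right
        exact (this.mul_left this)
      · exact hXu.of_mul_right_right
    have hg2 : (Int.gcd E (u ^ 2) : ℤ) ∣ b :=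
      (hu16.symm.of_isCoprime_of_dvd_left (Int.gcd_dvd_right _ _)).dvd_of_dvd_mul_left hg1
    have hg3 : (Int.gcd E (u ^ 2) : ℤ) ∣ w ^ 2 := by
      have e : u * σ = w + b * (2 * M) := by
        have : (b : ℤ) + 1 = 2 * (σ * t) := by exact_mod_cast hb
        rw [hu, hw]; linear_combination (-2 * (M : ℤ)) * this
      have e2 : w ^ 2 = u ^ 2 * σ ^ 2 - b * (2 * M) * (u * σ + w) := by
        linear_combination (-(u * σ) - w) * e
      rw [e2]
      exact dvd_sub ((Int.gcd_dvd_right _ _).mul_right _) ((hg2.mul_right _).mul_right _)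
    have h5 : E ∣ X * (Int.gcd E (u ^ 2) : ℤ) := by
      obtain ⟨p, q, hpq⟩ : ∃ p q : ℤ, (Int.gcd E (u ^ 2) : ℤ) = E * p + u ^ 2 * q :=
        ⟨_, _, Int.gcd_eq_gcd_ab E (u ^ 2)⟩
      rw [hpq, mul_add, ← mul_assoc X (u ^ 2)]
      exact dvd_add ((dvd_mul_right E p).mul_left X) (h3.mul_right q)
    exact h5.trans (mul_dvd_mul_left X hg3)
  have hw0 : w ≠ 0 := by
    have hσ2 : (σ : ℤ) % 2 = 1 := by exact_mod_cast Nat.odd_iff.1 hσo
    rcases hδ with e | e <;> rw [hw, e] <;> omega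
  have hX0 : 0 < X := by
    have : (1 : ℤ) ≤ M * t := by exact_mod_cast (Nat.mul_pos hMpos ht0)
    rcases hδ with e | e <;> rw [hX, e] <;> linarith
  have hu0 : u ≠ 0 := by rcases hδ with e | e <;> rw [hu, e] <;> omega
  have hb' : (b : ℤ) = 2 * t * σ - 1 := by
    have : (b : ℤ) + 1 = 2 * (σ * t) := by exact_mod_cast hb
    linear_combination this
  have hle1 : E ≤ X * w ^ 2 := Int.le_of_dvd (by positivity) h4
  have hle2 : E ≤ X * u ^ 2 := Int.le_of_dvd (by positivity) h3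
  have hMle : M * M ≤ 2 * t * σ - 1 := by
    have := Nat.le_of_dvd (by omega) hMb'
    have e : 2 * t * σ = 2 * (σ * t) := by ring
    omega
  have hbig : t * σ ≤ 70 ∧ M ≤ 11 := by
    have hcomm : (M : ℤ) * t = t * M := mul_comm _ _
    rcases bound_le ht0 hσpos hMpos (by rw [mul_comm]; omega) hMle hδ (by
      rw [hE, hu, hb', hcomm] at hle1
      rw [hX, hw, hcomm] at hle1
      linarith) with ⟨hm7, hM7⟩ | h
    · have := bound_small ht0 hσpos hMpos hm7 hδ (by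
        rw [hE, hu, hb', hcomm] at hle2
        rw [hX, hcomm] at hle2
        linarith)
      refine ⟨?_, by omega⟩
      have ht7 : t ≤ 7 := le_trans (Nat.le_mul_of_pos_right t hMpos) hm7
      exact le_trans (Nat.mul_le_mul ht7 this) (by norm_num)
    · exact h
  obtain ⟨p, hp⟩ : ∃ p : Bool, cond p (1 : ℤ) (-1) = δ := by
    rcases hδ with rfl | rfl
    · exact ⟨true, rfl⟩
    · exact ⟨false, rfl⟩
  have hsub : ((2 * t * σ - 1 : ℕ) : ℤ) = (b : ℤ) := by
    have : 2 * t * σ = 2 * (σ * t) := by ring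
    exact_mod_cast (show 2 * t * σ - 1 = b by omega)
  have ht71 : t < 71 := by
    have := Nat.le_mul_of_pos_right t hσpos
    omega
  have hσ71 : σ < 71 / t + 1 :=
    Nat.lt_succ_of_le ((Nat.le_div_iff_mul_le ht0).2 (by rw [mul_comm]; omega))
  have hbeq : 2 * t * σ - 1 = b := by
    have : 2 * t * σ = 2 * (σ * t) := by ring
    omega
  rcases arith_search t ht71 σ hσ71 M (by omega) p
      ⟨by
        rw [hp, hsub]
        refine Int.emod_eq_zero_of_dvd ?_
        have e : ((t * M : ℕ) : ℤ) = M * t := by push_cast; ring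
        rw [e]
        exact h2', hco, Nat.mod_eq_zero_of_dvd (by rw [hbeq]; exact hMb'),
      by rw [mul_comm]; omega, Nat.odd_iff.1 hσo, Nat.odd_iff.1 hMo⟩ with ⟨rfl, h5, h6⟩ | ⟨rfl, h5, h6⟩
  · refine Or.inl ⟨hp.symm, ?_, ?_⟩
    · rw [mul_comm] at h6; omega
    · rw [mul_comm] at h5; omega
  · refine Or.inr ⟨hp.symm, ?_, ?_⟩
    · rw [mul_comm] at h6; omega
    · rw [mul_comm] at h5; omega

end CfsgLib.CentFour
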