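import Cfsg.Agent.Lib.DGroup.Formula
import Cfsg.Agent.Lib.CharApps.NormalDefectCount
import Cfsg.Agent.Lib.Chars.TwoConjugates

/-!
# Brauer's formulas when an element of order four is self-centralizing

For a dihedral Sylow subgroup of order eight, one class of involutions and `C(x) = ⟨x⟩`, the
principal block gives the order of the group and a divisibility between its degrees.
-/

set_option autoImplicit false
set_option linter.unusedSectionVars false
set_option linter.style.haveILetI false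

namespace CfsgLib.CentFour

open Subgroup CfsgLib.Involutions CfsgLib.Chars CfsgLib.Blocks CfsgLib.CharApps CfsgLib.DGroup Cfsg
open scoped ComplexConjugate

universe u

variable {G : Type u} [Group G] [Finite G] {P : Sylow 2 G} (d : DP (P : Subgroup G))

/-- The class algebra coefficient for two classes. -/
theorem card_mul_mem_class [Fintype G] [Fintype (IrrCharacter G)] (g h w : G) :
    (Nat.card {y : G // IsConj g y ∧ IsConj h (w * y)} : ℂ) =
      ∑ χ : IrrCharacter G, centralChar (χ : G → ℂ) g⁻¹ * centralChar (χ : G → ℂ) h *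
        ((Nat.card G : ℂ)⁻¹ * ((χ : G → ℂ) 1 * conj ((χ : G → ℂ) w))) := by
  classical
  have h1 : (Nat.card {y : G // IsConj g y ∧ IsConj h (w * y)} : ℂ) =
      conv (classInd g⁻¹) (classInd h) w := by
    rw [conv, Nat.card_eq_fintype_card, Fintype.card_subtype, Finset.card_filter, Nat.cast_sum,
      ← Equiv.sum_comp (Equiv.inv G) (fun y => classInd g⁻¹ y * classInd h (y⁻¹ * w))]
    refine Finset.sum_congr rfl fun y _ => ?_
    rw [Equiv.inv_apply, inv_inv, classFun_mul_comm (isClassFunction_classInd h) y]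
    have hi : IsConj g⁻¹ y⁻¹ ↔ IsConj g y := by
      simp only [isConj_iff]
      exact exists_congr fun c => by rw [← conj_inv, _root_.inv_inj]
    simp only [classInd_apply, hi]
    by_cases a : IsConj g y <;> by_cases b : IsConj h (w * y) <;>
      simp only [a, b, and_self, and_false, and_true, if_true, if_false,
        mul_one, mul_zero, Nat.cast_one, Nat.cast_zero]
  rw [h1, classFun_eq_sum_omega
    (isClassFunction_conv (isClassFunction_classInd _) (isClassFunction_classInd _))]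
  refine Finset.sum_congr rfl fun χ _ => ?_
  rw [omega_conv χ (isClassFunction_classInd _), omega_classInd, omega_classInd]
  rfl

variable (hn : d.n = 2) (hcx : centralizer ({d.x} : Set G) = zpowers d.x)

include hn in
theorem z_eq_sq : d.z = d.x ^ 2 := by
  rw [DP.z, DP.half, hn, ← zpow_natCast]
  norm_num

include hn hcx in
/-- Exactly four involutions invert `x`. -/
theorem card_inverting (hone : ∀ s : G, orderOf s = 2 → IsConj d.z s) :
    Nat.card {y : G // IsConj d.z y ∧ IsConj d.z (d.x * y)} = 4 := by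
  have hr : ∀ i : ℤ, IsConj d.z (d.r i) ∧ IsConj d.z (d.x * d.r i) := fun i => by
    refine ⟨hone _ (d.orderOf_r i), ?_⟩
    rw [show d.x * d.r i = d.r (1 + i) by rw [← d.zpow_mul_r, zpow_one]]
    exact hone _ (d.orderOf_r _)
  let f : Fin 4 → {y : G // IsConj d.z y ∧ IsConj d.z (d.x * y)} :=
    fun i => ⟨d.r (i : ℕ), hr _⟩
  have h2 : 2 * d.half = 4 := by rw [DP.half, hn]; norm_num
  refine (Nat.card_eq_of_bijective f ⟨?_, ?_⟩).symm.trans (Nat.card_fin 4)
  · intro i j e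
    have := d.r_inj.1 (congrArg Subtype.val e)
    rw [h2] at this
    exact Fin.ext (by omega)
  · rintro ⟨y, hy, hxy⟩
    have oy : orderOf y = 2 := by
      obtain ⟨c, rfl⟩ := isConj_iff.1 hy
      exact conj_invol c d.orderOf_z
    have oxy : orderOf (d.x * y) = 2 := by
      obtain ⟨c, hc⟩ := isConj_iff.1 hxy
      exact hc ▸ conj_invol c d.orderOf_z
    have hyx : y * d.x * y⁻¹ = d.x⁻¹ := by
      have e : d.x * y * (d.x * y) = 1 := invol_mul_self oxy
      refine eq_inv_of_mul_eq_one_right ?_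
      rw [invol_inv oy, show d.x * (y * d.x * y) = d.x * y * (d.x * y) by group, e]
    have hc : y * d.r 0 ∈ centralizer ({d.x} : Set G) := by
      rw [mem_centralizer_singleton_iff]
      have h0 : d.r 0 * d.x = d.x⁻¹ * d.r 0 := by
        have e0 := d.r_mul_zpow 0 1
        rw [zpow_one] at e0
        rw [e0, show (0 : ℤ) - 1 = -1 + 0 by norm_num, ← d.zpow_mul_r, zpow_neg_one]
      calc y * d.r 0 * d.x = y * d.x⁻¹ * d.r 0 := by rw [mul_assoc, h0, mul_assoc]
        _ = (y * d.x * y⁻¹)⁻¹ * y * d.r 0 := by group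
        _ = d.x * (y * d.r 0) := by rw [hyx]; group
    rw [hcx] at hc
    obtain ⟨j, hj⟩ := hc
    have hyj : y = d.r j := by
      rw [show d.r j = d.x ^ j * d.r 0 by rw [d.zpow_mul_r, add_zero],
        show d.x ^ j = y * d.r 0 from hj, mul_assoc, invol_mul_self (d.orderOf_r 0), mul_one]
    refine ⟨⟨(j % 4).toNat, by omega⟩, Subtype.ext ?_⟩
    show d.r ((j % 4).toNat : ℕ) = y
    rw [hyj, d.r_inj, h2]
    omega

set_option maxHeartbeats 1000000 in
include hn hcx in
/-- The order formula, with the degree congruent to `δ` modulo eight, and the divisibility coming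
from the product of two classes of involutions meeting `x`. -/
theorem eight_formula (hone : ∀ s : G, orderOf s = 2 → IsConj d.z s) {a b : ℕ}
    (ha : Odd a) (hb : Odd b)
    (hcz : Nat.card (centralizer ({d.z} : Set G)) = 8 * a * b)
    (hc0 : Nat.card (centralizer ({d.z, d.r 0} : Set G)) = 4 * a)
    (hc1 : Nat.card (centralizer ({d.z, d.r 1} : Set G)) = 4 * b) :
    ∃ (o s m : ℕ) (δ : ℤ), (δ = 1 ∨ δ = -1) ∧ 0 < m ∧ a + b = 2 * s ∧ Odd o ∧
      Nat.card G = 8 * o ∧
      (o : ℤ) * m ^ 2 = a * b * s ^ 2 * (8 * m + δ) * (4 * m + δ) ∧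
      ((4 * m + δ) ^ 2 * s ^ 2 - 16 * m ^ 2 * (a * b) : ℤ) ∣
        δ * (8 * m + δ) * (4 * m + δ) ^ 2 * s ^ 2 := by
  classical
  haveI := Fintype.ofFinite G
  haveI : Fact (Nat.Prime 2) := ⟨Nat.prime_two⟩
  haveI := irrFintype G
  obtain ⟨Mi, hM⟩ := CfsgLib.CharApps.exists_pModular 2
  haveI := isPrime_of_isPModular hM
  obtain ⟨ζ, hζ⟩ : ∃ ζ : ℂ, IsPrimitiveRoot ζ (2 ^ d.n) :=
    ⟨_, Complex.isPrimitiveRoot_exp _ (pow_ne_zero _ two_ne_zero)⟩
  obtain ⟨-, X, Y, Z, E, δ, δ₂, δ₃, hδ, hδ₂, hδ₃, -, hX1, hY1, hZ1, hXY, hXZ, hYZ, -, hblock,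
    hvals, hrel⟩ := dihedral_principalBlock d hM (by omega) hζ
  have hXB : X ∈ principalBlock Mi G := by rw [hblock]; exact Or.inr (Or.inl rfl)
  have hN : 2 ^ d.n = 4 := by rw [hn]; norm_num
  obtain ⟨hne, hformula⟩ := dihedral_order_formula d hM (by omega) hone X hXB hX1 δ hδ
    fun l h1 h2 => (hvals l h1 h2).1
  rw [hcz, hc0, hc1] at hformula
  -- the group order
  obtain ⟨o, hg⟩ : 8 ∣ Nat.card G := by
    have h1 := Subgroup.card_subgroup_dvd_card (P : Subgroup G)
    rw [d.card_eq, hn] at h1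
    exact (by norm_num : (8 : ℕ) = 2 * 2 ^ 2) ▸ h1
  have ho : Odd o := by
    have h1 := (P : Subgroup G).card_mul_index
    rw [d.card_eq, hn, hg] at h1
    have h3 : o = (P : Subgroup G).index := by norm_num at h1; omega
    rw [h3]
    exact Nat.odd_iff.2 (Nat.two_dvd_ne_zero.1 P.not_dvd_index)
  obtain ⟨s, hs⟩ : 2 ∣ a + b := even_iff_two_dvd.1 (ha.add_odd hb)
  set x := charDegree (X : G → ℂ) with hx
  have hmod : (4 : ℤ) ∣ (x : ℤ) - δ := by
    refine four_dvd_deg_sub X (zpowers d.x) δ ?_ fun c hc hc1 => ?_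
    · rw [Nat.card_zpowers, d.orderOf_x, hn]; norm_num
    · obtain ⟨l, rfl⟩ := mem_powers_iff_mem_zpowers.2 hc
      show (X : G → ℂ) (d.x ^ l) = δ
      have hl : d.x ^ (l % orderOf d.x) = d.x ^ l := pow_mod_orderOf _ _
      have hc1' : d.x ^ l ≠ 1 := hc1
      rw [← hl] at hc1' ⊢
      refine (hvals _ (Nat.pos_of_ne_zero fun e => hc1' (by rw [e, pow_zero])) ?_).1
      rw [← d.orderOf_x]; exact Nat.mod_lt _ (orderOf_pos _)
  obtain ⟨l, hl⟩ := hmod
  have ha0 : (a : ℚ) ≠ 0 := Nat.cast_ne_zero.2 ha.pos.ne'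
  have hb0 : (b : ℚ) ≠ 0 := Nat.cast_ne_zero.2 hb.pos.ne'
  have key0 : (Nat.card G : ℤ) * ((x : ℤ) - δ) ^ 2 =
      64 * (a * b) * ((a + b : ℕ) : ℤ) ^ 2 * (x * (x + δ)) := by
    apply Int.cast_injective (α := ℚ)
    push_cast
    rw [hformula]
    push_cast
    field_simp
    ring
  rw [hg, hs, hl, show (x : ℤ) = 4 * l + δ by linarith] at key0
  push_cast at key0
  have key1 : (o : ℤ) * l ^ 2 = 2 * (a * b) * s ^ 2 * ((4 * l + δ) * (4 * l + 2 * δ)) := by
    linarith [key0]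
  obtain ⟨m', hm'⟩ : (2 : ℤ) ∣ l := by
    refine (Int.prime_two.dvd_of_dvd_pow (n := 2) ?_)
    have h2 : (2 : ℤ) ∣ (o : ℤ) * l ^ 2 := by rw [key1]; exact ⟨_, by rw [mul_assoc, mul_assoc]⟩
    refine (Int.prime_two.dvd_or_dvd h2).resolve_left fun h => ?_
    exact Nat.two_dvd_ne_zero.2 (Nat.odd_iff.1 ho) (Int.natCast_dvd_natCast.1 (by exact_mod_cast h))
  have hx0 : 0 < x := CfsgLib.CharApps.deg_pos X
  obtain ⟨m, hm⟩ : ∃ m : ℕ, m' = (m : ℤ) := by
    refine Int.eq_ofNat_of_zero_le ?_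
    rcases hδ with e | e <;> omega
  subst hm
  subst hm'
  have hmpos : 0 < m := by
    refine Nat.pos_of_ne_zero fun e => hne ?_
    subst e
    simpa [sub_eq_zero] using hl
  refine ⟨o, s, m, δ, hδ, hmpos, hs, ho, hg, by linarith [key1], ?_⟩
  -- the values on `x` and on `z`
  set y := charDegree (Y : G → ℂ) with hy
  set w := charDegree (Z : G → ℂ) with hw
  have v1 := hvals 1 one_pos (by omega)
  have v2 := hvals 2 two_pos (by omega)
  rw [pow_one] at v1
  rw [← z_eq_sq d hn] at v2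
  have hrel1 := (hrel 1 (by simp) ⟨0, by rw [hn]; norm_num⟩).1
  rw [deg_eq, deg_eq, deg_eq, ← hx, ← hy, ← hw] at hrel1
  have hsum := CfsgLib.Chars.sum_normSq (G := G) d.x
  rw [hcx, Nat.card_zpowers, d.orderOf_x, hN] at hsum
  have sgn : ∀ e : ℤ, (e = 1 ∨ e = -1) → Complex.normSq (e : ℂ) = 1 := by
    rintro e (rfl | rfl) <;> simp
  let S : Finset (IrrCharacter G) := {principal G, X, Y, Z}
  have hvan : ∀ χ : IrrCharacter G, χ ∉ S → (χ : G → ℂ) d.x = 0 := by
    intro χ hχ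
    have h1 : ∑ ψ ∈ S, Complex.normSq ((ψ : G → ℂ) d.x) = 4 := by
      rw [Finset.sum_insert (by simp [hX1.symm, hY1.symm, hZ1.symm]),
        Finset.sum_insert (by simp [hXY, hXZ]), Finset.sum_insert (by simp [hYZ]),
        Finset.sum_singleton, principal_apply, map_one, v1.1, v1.2.1, v1.2.2.1]
      norm_num [sgn δ hδ, sgn δ₂ hδ₂, sgn δ₃ hδ₃]
    have h2 : ∑ ψ ∈ insert χ S, Complex.normSq ((ψ : G → ℂ) d.x) ≤
        ∑ ψ : IrrCharacter G, Complex.normSq ((ψ : G → ℂ) d.x) :=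
      Finset.sum_le_univ_sum_of_nonneg fun ψ => Complex.normSq_nonneg _
    rw [Finset.sum_insert hχ, h1, hsum] at h2
    push_cast at h2
    exact Complex.normSq_eq_zero.1 (le_antisymm (by linarith) (Complex.normSq_nonneg _))
  have hcount := card_mul_mem_class d.z d.z d.x
  rw [card_inverting d hn hcx hone, ← Finset.sum_subset (Finset.subset_univ S)
    (fun χ _ hχ => by rw [hvan χ hχ]; simp), Finset.sum_insert (by simp [hX1.symm, hY1.symm,
    hZ1.symm]), Finset.sum_insert (by simp [hXY, hXZ]), Finset.sum_insert (by simp [hYZ]),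
    Finset.sum_singleton, invol_inv d.orderOf_z] at hcount
  simp only [centralChar, principal_apply, deg_eq, v1.1, v1.2.1, v1.2.2.1, v2.1, v2.2.1, v2.2.2.1,
    map_one, map_mul, map_intCast, map_pow, map_neg, ← hx, ← hy, ← hw] at hcount
  have hidx : (centralizer ({d.z} : Set G)).index * (8 * a * b) = 8 * o := by
    rw [← hcz, ← hg, mul_comm, Subgroup.card_mul_index]
  set k := (centralizer ({d.z} : Set G)).index with hk
  rw [hg] at hcount
  have hx0' : (x : ℂ) ≠ 0 := Nat.cast_ne_zero.2 hx0.ne'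
  have hy0' : (y : ℂ) ≠ 0 := Nat.cast_ne_zero.2 (CfsgLib.CharApps.deg_pos Y).ne'
  have hw0' : (w : ℂ) ≠ 0 := Nat.cast_ne_zero.2 (CfsgLib.CharApps.deg_pos Z).ne'
  have ho' : (o : ℂ) ≠ 0 := Nat.cast_ne_zero.2 ho.pos.ne'
  have sq1 : ∀ e : ℤ, (e = 1 ∨ e = -1) → (e : ℂ) ^ 3 = e := by rintro e (rfl | rfl) <;> norm_num
  have hc : (4 : ℤ) * (8 * o) * (x * y * w) =
      k ^ 2 * (x * y * w + δ * (y * w) + δ₂ * (x * w) + δ₃ * (x * y)) := by
    apply Int.cast_injective (α := ℂ)
    push_cast at hcount ⊢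
    norm_num at hcount
    field_simp at hcount
    linear_combination hcount + ((k : ℂ) ^ 2 * (y * w)) * sq1 δ hδ +
      ((k : ℂ) ^ 2 * (x * w)) * sq1 δ₂ hδ₂ + ((k : ℂ) ^ 2 * (x * y)) * sq1 δ₃ hδ₃
  -- eliminate
  have hr : (1 : ℤ) + δ * x = -(δ₂ * y) - δ₃ * w := by
    apply Int.cast_injective (α := ℂ)
    push_cast at hrel1 ⊢
    norm_num at hrel1
    linear_combination hrel1
  have hxv : (x : ℤ) = 8 * m + δ := by linarith
  have hk' : (k : ℤ) * (a * b) = o := by
    have : (k : ℤ) * (8 * a * b) = 8 * o := by exact_mod_cast hidx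
    linarith
  have dd : δ * δ = 1 := by rcases hδ with e | e <;> rw [e] <;> norm_num
  have d2 : δ₂ * δ₂ = 1 := by rcases hδ₂ with e | e <;> rw [e] <;> norm_num
  have d3 : δ₃ * δ₃ = 1 := by rcases hδ₃ with e | e <;> rw [e] <;> norm_num
  -- in signed degrees
  set xA : ℤ := δ * x with hxA
  set yB : ℤ := δ₂ * y with hyB
  set wC : ℤ := δ₃ * w with hwC
  have hc' : 32 * (o : ℤ) * (xA * yB * wC) =
      k ^ 2 * (xA * yB * wC + yB * wC + xA * wC + xA * yB) := by
    rw [hxA, hyB, hwC]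
    linear_combination δ * δ₂ * δ₃ * hc + (k ^ 2 * (y * w) * δ₂ * δ₃) * dd +
      (k ^ 2 * (x * w) * δ * δ₃) * d2 + (k ^ 2 * (x * y) * δ * δ₂) * d3
  have h2 : 32 * (o : ℤ) * (xA * yB * wC) = k ^ 2 * (1 + xA) * (yB * wC - xA) := by
    linear_combination hc' + (k : ℤ) ^ 2 * xA * hr
  have hxA' : xA = δ * (8 * m + δ) := by rw [hxA, hxv]
  have hu : (1 : ℤ) + xA = 2 * δ * (4 * m + δ) := by rw [hxA']; linear_combination -dd
  set u : ℤ := 4 * m + δ with hudef
  set X' : ℤ := 8 * m + δ with hXdef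
  rw [hu, hxA'] at h2
  have hab : ((a : ℤ) * b) ≠ 0 :=
    mul_ne_zero (by exact_mod_cast ha.pos.ne') (by exact_mod_cast hb.pos.ne')
  -- multiply by `(a b)²` and cancel `o`
  have h3 : 32 * ((a : ℤ) * b) ^ 2 * (δ * X' * (yB * wC)) =
      o * (2 * δ * u) * (yB * wC - δ * X') := by
    refine mul_left_cancel₀ (show (o : ℤ) ≠ 0 by exact_mod_cast ho.pos.ne') ?_
    linear_combination ((a : ℤ) * b) ^ 2 * h2 + 2 * δ * u * (yB * wC - δ * X') *
      ((k : ℤ) * (a * b) + o) * hk'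
  have hkey : (o : ℤ) * m ^ 2 = a * b * s ^ 2 * X' * u := by rw [hXdef, hudef]; linarith [key1]
  have h4 : (yB * wC) * (u ^ 2 * s ^ 2 - 16 * m ^ 2 * (a * b)) = δ * X' * u ^ 2 * s ^ 2 := by
    refine mul_left_cancel₀ (show (2 * δ * ((a : ℤ) * b) * X') ≠ 0 from ?_) ?_
    · refine mul_ne_zero (mul_ne_zero (mul_ne_zero two_ne_zero (fun e => by simp [e] at dd)) hab) ?_
      rw [hXdef]; rcases hδ with e | e <;> rw [e] <;> omega
    · linear_combination -(m : ℤ) ^ 2 * h3 - 2 * δ * u * (yB * wC - δ * X') * hkey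
  exact ⟨yB * wC, by rw [← h4]; ring⟩

/-- Strong form of the bound for a four-group Sylow subgroup. -/
theorem klein_strong {R : Subgroup G} (_h : Cen d R) (hT : ∀ i, ¬ d.F2 i) (hn1 : d.n = 1)
    (hgen : ∀ N : Subgroup G, N.Normal → (∀ t : G, orderOf t = 2 → t ∈ N) → N = ⊤) :
    11 * (cz d) ^ 3 ≤ 2 * (Nat.card G * (ce d) ^ 2) := by
  classical
  haveI := Fintype.ofFinite G
  haveI : Fact (Nat.Prime 2) := ⟨Nat.prime_two⟩
  obtain ⟨M, hM⟩ := CfsgLib.CharApps.exists_pModular 2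
  haveI := isPrime_of_isPModular hM
  have hPT : (P : Subgroup G) = d.TG 0 := by
    haveI := d.isKleinFour_TG 0
    exact (eq_of_le_of_card_ge (d.TG_le 0)
      (by rw [(d.isKleinFour_TG 0).card_four]; exact (d.card_eq_four_iff.2 hn1).le)).symm
  have hP : IsKleinFour (P : Subgroup G) := hPT ▸ d.isKleinFour_TG 0
  have hone : ∀ s : G, orderOf s = 2 → IsConj d.z s := fun s hs => d.isConj_z hT hs
  obtain ⟨K⟩ := exists_kleinData hM P hP (fun s t hs ht => (hone s hs).symm.trans (hone t ht))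
    (J := d.z) d.orderOf_z
  obtain ⟨g₀, hg₀, hG⟩ : ∃ g₀, Odd g₀ ∧ Nat.card G = 4 * g₀ := by
    refine ⟨(P : Subgroup G).index, ?_, ?_⟩
    · exact Nat.odd_iff.2 (Nat.two_dvd_ne_zero.1 P.not_dvd_index)
    · rw [← hP.card_four, Subgroup.card_mul_index]
  have hnc : ¬ ∃ N : Subgroup G, N.Normal ∧ Nat.card N = g₀ := by
    rintro ⟨N, hNn, hNc⟩
    haveI := hNn
    have hidx : N.index = 2 ^ 2 := by
      have h1 := N.card_mul_index
      rw [hNc, hG, mul_comm 4] at h1
      exact Nat.eq_of_mul_eq_mul_left hg₀.pos h1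
    have hab := IsPGroup.commutative_of_card_eq_prime_sq (G := G ⧸ N) (p := 2)
      (by rw [← Subgroup.index_eq_card, hidx])
    obtain ⟨w, hw⟩ := isConj_iff.1 (hone _ (d.orderOf_r 0))
    have e : (QuotientGroup.mk' N) d.z = QuotientGroup.mk' N (d.r 0) := by
      rw [← hw, map_mul, map_mul, hab, ← mul_assoc, ← map_mul, inv_mul_cancel, map_one, one_mul]
    have hmem : d.z⁻¹ * d.r 0 ∈ N := (QuotientGroup.eq).1 e
    rw [invol_inv d.orderOf_z, d.z_mul_r] at hmem
    have := Subgroup.orderOf_dvd_natCard N hmem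
    rw [d.orderOf_r, hNc] at this
    exact Nat.not_even_iff_odd.2 hg₀ (even_iff_two_dvd.2 this)
  -- a linear character trivial on involutions is principal
  have hlin : ∀ χ : IrrCharacter G, χ ≠ principal G → charDegree (χ : G → ℂ) = 1 →
      (χ : G → ℂ) d.z ≠ 1 := by
    intro χ hne h1 hz
    obtain ⟨lam, hlam⟩ := exists_hom_of_degree_one (isCharacter_of_irr χ.2)
      (by rw [CfsgLib.CharApps.deg_eq, h1, Nat.cast_one])
    have := hgen lam.ker inferInstance fun t ht => by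
      obtain ⟨w', hw'⟩ := isConj_iff.1 (hone t ht)
      have hz' : (χ : G → ℂ) t = 1 := by
        rw [← hw', isClassFunction_irr χ d.z w', hz]
      rw [congrFun hlam t] at hz'
      exact MonoidHom.mem_ker.2 (Units.ext hz')
    refine hne (Subtype.ext (funext fun g => ?_))
    have hg' : lam g = 1 := MonoidHom.mem_ker.1 (this ▸ mem_top g)
    rw [principal_apply, congrFun hlam g, hg', Units.val_one]
  have hblock : principalBlock M G = {χ : IrrCharacter G | (χ : G → ℂ) = (fun _ => 1) ∨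
      χ = K.X ∨ χ = K.Y ∨ χ = K.Z} := by
    ext χ
    rw [K.block]
    simp only [Set.mem_insert_iff, Set.mem_singleton_iff, Set.mem_ofPred_eq]
    refine or_congr ?_ Iff.rfl
    rw [show (fun _ : G => (1 : ℂ)) = (principal G : G → ℂ) from rfl]
    exact Subtype.coe_inj.symm
  have hfun : ∀ χ : IrrCharacter G, χ ≠ principal G → (χ : G → ℂ) ≠ fun _ => 1 :=
    fun χ hne e => hne (Subtype.ext e)
  have hf := Cfsg.Agent.S4479.result M hM g₀ hg₀ hG hnc P d.z d.z_mem d.orderOf_z K.X K.Y K.Z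
    1 K.ε (-1) hblock ⟨hfun _ K.X_ne, hfun _ K.Y_ne, hfun _ K.Z_ne, K.XY, K.XZ, K.YZ⟩
    ⟨Or.inl rfl, K.ε_cases, Or.inr rfl⟩
    ⟨by rw [K.valX, Int.cast_one], K.valY, by rw [K.valZ, Int.cast_neg, Int.cast_one]⟩
  have hcP : centralizer ((P : Subgroup G) : Set G) = centralizer ({d.z, d.r 0} : Set G) := by
    refine (congrArg (fun T : Subgroup G => centralizer (T : Set G)) hPT).trans ?_
    show centralizer ((closure {d.z, d.r 0} : Subgroup G) : Set G) = _
    rw [centralizer_closure]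
  rw [hcP] at hf
  have hrel := K.rel 1 (by simp)
  rw [CfsgLib.CharApps.deg_eq, CfsgLib.CharApps.deg_eq, CfsgLib.CharApps.deg_eq] at hrel
  have hx0 := CfsgLib.CharApps.deg_pos K.X
  have hy0 := CfsgLib.CharApps.deg_pos K.Y
  have hmx := K.modX
  have hmy := K.modY
  have hmw := K.modZ
  have hx1 : charDegree (K.X : G → ℂ) ≠ 1 := fun e => hlin _ K.X_ne e K.valX
  have hy1 : K.ε = 1 → charDegree (K.Y : G → ℂ) ≠ 1 := fun hε e =>
    hlin _ K.Y_ne e (by rw [K.valY, hε, Int.cast_one])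
  set x := charDegree (K.X : G → ℂ) with hx
  set y := charDegree (K.Y : G → ℂ) with hy
  set w := charDegree (K.Z : G → ℂ) with hw
  have hw0 : 0 < w := CfsgLib.CharApps.deg_pos K.Z
  have hrel' : 1 + (x : ℤ) + K.ε * y - w = 0 := by
    apply Int.cast_injective (α := ℂ)
    push_cast
    linear_combination hrel
  have hx5 : 5 ≤ (x : ℤ) := by omega
  have hw3 : 3 ≤ (w : ℤ) := by omega
  have hy3 : K.ε = -1 → 3 ≤ (y : ℤ) := fun e => by rw [e] at hmy; omega
  have hy5 : K.ε = 1 → 5 ≤ (y : ℤ) := fun e => by have := hy1 e; rw [e] at hmy; omega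
  have hye : (y : ℤ) + K.ε ≠ 0 := by
    rcases K.ε_cases with e | e
    · rw [e]; omega
    · have := hy3 e; rw [e]; omega
  have key : (Nat.card G : ℤ) * ((ce d) : ℤ) ^ 2 * (((x : ℤ) + 1) * ((y : ℤ) + K.ε) * ((w : ℤ) - 1)) =
      8 * ((x : ℤ) * y * w) * ((cz d) : ℤ) ^ 3 := by
    have hne1 : (x : ℚ) + 1 ≠ 0 := by positivity
    have hne2 : (y : ℚ) + (K.ε : ℚ) ≠ 0 := by exact_mod_cast hye
    have hne3 : (w : ℚ) + -1 ≠ 0 := by
      have : (w : ℤ) + -1 ≠ 0 := by omega
      exact_mod_cast this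
    have hce : ((ce d) : ℚ) ≠ 0 := Nat.cast_ne_zero.2 Nat.card_pos.ne'
    apply Int.cast_injective (α := ℚ)
    push_cast
    push_cast at hf
    rw [hf]
    field_simp
    ring
  set B : ℤ := ((x : ℤ) + 1) * ((y : ℤ) + K.ε) * ((w : ℤ) - 1) with hB
  set A : ℤ := (x : ℤ) * y * w with hA
  obtain ⟨hB0, hlo⟩ : 0 < B ∧ 11 * B ≤ 16 * A := by
    rcases K.ε_cases with e | e
    · have h2 := hy5 e
      rw [e] at hrel'
      have hwv : (w : ℤ) = 1 + x + y := by linarith
      rw [hA, hB, e, hwv]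
      set a : ℤ := (x : ℤ)
      set b : ℤ := (y : ℤ)
      have h36 : 25 * ((a + 1) * (b + 1)) ≤ 36 * (a * b) := by
        have := mul_nonneg (sub_nonneg.2 hx5) (sub_nonneg.2 h2)
        linarith
      have k1 := mul_le_mul_of_nonneg_right h36 (show (0 : ℤ) ≤ a + b by linarith)
      have k2 : 0 ≤ a * b := mul_nonneg (by linarith) (by linarith)
      have k3 := mul_nonneg k2 (show (0 : ℤ) ≤ a + b by linarith)
      exact ⟨mul_pos (mul_pos (by linarith) (by linarith)) (by linarith), by linarith⟩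
    · have h2 := hy3 e
      rw [e] at hrel'
      have hxv : (x : ℤ) + 1 = w + y := by linarith
      rw [hA, hB, e]
      set a : ℤ := (x : ℤ)
      set b : ℤ := (y : ℤ)
      set c : ℤ := (w : ℤ)
      have k1 : 5 * (a + 1) ≤ 6 * a := by linarith
      have k2 : (b + -1) * (c - 1) ≤ b * c := by linarith
      have k3 := mul_le_mul k1 k2 (mul_nonneg (by linarith) (by linarith)) (by linarith)
      have k4 : 0 ≤ a * (b * c) :=
        mul_nonneg (by linarith) (mul_nonneg (by linarith) (by linarith))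
      exact ⟨mul_pos (mul_pos (by linarith) (by linarith)) (by linarith), by linarith⟩
  have hc3 : (0 : ℤ) ≤ ((cz d) : ℤ) ^ 3 := by positivity
  have k5 := mul_le_mul_of_nonneg_right hlo hc3
  have : 11 * ((cz d) : ℤ) ^ 3 * B ≤ 2 * ((Nat.card G : ℤ) * ((ce d) : ℤ) ^ 2) * B := by
    linarith
  exact_mod_cast le_of_mul_le_mul_right this hB0

end CfsgLib.CentFour
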