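import Cfsg.Agent.Lib.CentFour.Tools
import Cfsg.Agent.Lib.CentFour.Formula

/-!
# The configuration: dihedral Sylow subgroups of order eight and `C(x) = ⟨x⟩`

`Kt t` consists of the elements of odd order commuting with the involution `t`; it is abelian.
`A i` is the part of `Kt z` centralized by the reflection `r i`.
-/

set_option autoImplicit false
set_option linter.unusedSectionVars false
set_option linter.style.haveILetI false

namespace CfsgLib.CentFour

open Subgroup CfsgLib.Involutions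

universe u

variable {G : Type u} [Group G] [Finite G] {P : Sylow 2 G}

/-- The hypotheses. -/
structure Hyp (d : DP (P : Subgroup G)) : Prop where
  n_eq : d.n = 2
  cx : centralizer ({d.x} : Set G) = zpowers d.x
  fus : ∀ i, ¬ d.F2 i

/-- The subgroup generated by the elements of odd order commuting with `t`. -/
def Kt (t : G) : Subgroup G := closure {a | Commute t a ∧ Odd (orderOf a)}

theorem map_Kt (g t : G) :
    (Kt t).map (MulAut.conj g).toMonoidHom = Kt (g * t * g⁻¹) := by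
  rw [Kt, Kt, MonoidHom.map_closure]
  congr 1
  ext a
  constructor
  · rintro ⟨b, ⟨hc, ho⟩, rfl⟩
    refine ⟨?_, ?_⟩
    · show g * t * g⁻¹ * (g * b * g⁻¹) = g * b * g⁻¹ * (g * t * g⁻¹)
      calc g * t * g⁻¹ * (g * b * g⁻¹) = g * (t * b) * g⁻¹ := by group
        _ = g * (b * t) * g⁻¹ := by rw [hc.eq]
        _ = _ := by group
    · rwa [show (MulAut.conj g).toMonoidHom b = (MulAut.conj g) b from rfl, MulEquiv.orderOf_eq]
  · rintro ⟨hc, ho⟩
    refine ⟨g⁻¹ * a * g, ⟨?_, ?_⟩, ?_⟩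
    · show t * (g⁻¹ * a * g) = g⁻¹ * a * g * t
      calc t * (g⁻¹ * a * g) = g⁻¹ * (g * t * g⁻¹ * a) * g := by group
        _ = g⁻¹ * (a * (g * t * g⁻¹)) * g := by rw [hc.eq]
        _ = _ := by group
    · rwa [show g⁻¹ * a * g = (MulAut.conj g⁻¹) a by simp, MulEquiv.orderOf_eq]
    · show g * (g⁻¹ * a * g) * g⁻¹ = a
      group

namespace Hyp

variable {d : DP (P : Subgroup G)} (h : Hyp d)
include h

theorem half_eq : d.half = 2 := by rw [DP.half, h.n_eq]; norm_num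

theorem z_eq : d.z = d.x ^ (2 : ℤ) := by rw [DP.z, h.half_eq]

theorem r_two (i : ℤ) : d.r (i + 2) = d.z * d.r i := by rw [d.z_mul_r, h.half_eq, add_comm]

theorem orderOf_x : orderOf d.x = 4 := by rw [d.orderOf_x, h.n_eq]; norm_num

theorem card_P : Nat.card (P : Subgroup G) = 8 := by rw [d.card_eq, h.n_eq]; norm_num

theorem hone (t : G) (ht : orderOf t = 2) : IsConj d.z t := d.isConj_z h.fus ht

theorem mem_Kt_z {a : G} : a ∈ Kt d.z ↔ Commute d.z a ∧ Odd (orderOf a) := by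
  classical
  haveI := Fintype.ofFinite G
  haveI : Fact (Nat.Prime 2) := ⟨Nat.prime_two⟩
  refine ⟨fun ha => ?_, fun ha => subset_closure ha⟩
  obtain ⟨π, hπP, -, hπo⟩ := CfsgLib.Blocks.exists_projection d
  have hle : Kt d.z ≤ π.ker.map (centralizer ({d.z} : Set G)).subtype := by
    refine (closure_le _).2 fun b ⟨hc, ho⟩ => ?_
    refine ⟨⟨b, mem_centralizer_singleton_iff.2 hc.eq.symm⟩, ?_, rfl⟩
    refine MonoidHom.mem_ker.2 ?_
    obtain ⟨k, hk⟩ := IsPGroup.iff_orderOf.1 P.isPGroup' ⟨_, hπP ⟨b, _⟩⟩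
    rw [Subgroup.orderOf_mk] at hk
    have hd : Odd (orderOf (π ⟨b, mem_centralizer_singleton_iff.2 hc.eq.symm⟩)) := by
      refine ho.of_dvd_nat ?_
      refine (orderOf_map_dvd π _).trans ?_
      rw [Subgroup.orderOf_mk]
    rw [hk] at hd
    rcases k with _ | k
    · rwa [pow_zero, orderOf_eq_one_iff] at hk
    · exact absurd hd (by simp [Nat.odd_pow_iff])
  obtain ⟨c, hc, rfl⟩ := hle ha
  refine ⟨(mem_centralizer_singleton_iff.1 c.2).symm, ?_⟩
  show Odd (orderOf (c : G))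
  rw [Subgroup.orderOf_coe]
  exact hπo c (MonoidHom.mem_ker.1 hc)

theorem mem_Kt {t a : G} (ht : orderOf t = 2) :
    a ∈ Kt t ↔ Commute t a ∧ Odd (orderOf a) := by
  refine ⟨fun ha => ?_, fun ha => subset_closure ha⟩
  obtain ⟨g, rfl⟩ := isConj_iff.1 (h.hone t ht)
  rw [← map_Kt] at ha
  obtain ⟨b, hb, rfl⟩ := ha
  obtain ⟨hc, ho⟩ := h.mem_Kt_z.1 hb
  refine ⟨?_, ?_⟩
  · show g * d.z * g⁻¹ * (g * b * g⁻¹) = g * b * g⁻¹ * (g * d.z * g⁻¹)
    calc g * d.z * g⁻¹ * (g * b * g⁻¹) = g * (d.z * b) * g⁻¹ := by group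
      _ = g * (b * d.z) * g⁻¹ := by rw [hc.eq]
      _ = _ := by group
  · rwa [show (MulAut.conj g).toMonoidHom b = (MulAut.conj g) b from rfl, MulEquiv.orderOf_eq]

theorem card_Kt {t : G} (ht : orderOf t = 2) : Nat.card (Kt t) = Nat.card (Kt d.z) := by
  obtain ⟨g, rfl⟩ := isConj_iff.1 (h.hone t ht)
  rw [← map_Kt, card_map_of_injective (MulAut.conj g).injective]

theorem odd_Kt {t : G} (ht : orderOf t = 2) : Odd (Nat.card (Kt t)) := by
  haveI : Fact (Nat.Prime 2) := ⟨Nat.prime_two⟩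
  by_contra he
  obtain ⟨a, ha⟩ := exists_prime_orderOf_dvd_card' (G := Kt t) 2
    (even_iff_two_dvd.1 (Nat.not_odd_iff_even.1 he))
  have h1 := ((h.mem_Kt ht).1 a.2).2
  rw [Subgroup.orderOf_coe, ha] at h1
  exact absurd h1 (by decide)

theorem eq_one_of_mem_P {a : G} (ho : Odd (orderOf a)) (hP : a ∈ (P : Subgroup G)) : a = 1 := by
  haveI : Fact (Nat.Prime 2) := ⟨Nat.prime_two⟩
  obtain ⟨k, hk⟩ := IsPGroup.iff_orderOf.1 P.isPGroup' ⟨a, hP⟩
  rw [Subgroup.orderOf_mk] at hk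
  rw [hk] at ho
  rcases k with _ | k
  · rwa [pow_zero, orderOf_eq_one_iff] at hk
  · exact absurd ho (by simp [Nat.odd_pow_iff])

theorem commute_zx : Commute d.z d.x := d.commute_z d.x_mem

theorem x_inverts {a : G} (ha : a ∈ Kt d.z) : d.x * a * d.x⁻¹ = a⁻¹ := by
  have hmaps : ∀ g : G, Commute d.z g → ∀ w ∈ Kt d.z, g * w * g⁻¹ ∈ Kt d.z := fun g hg w hw => by
    have := mem_map_of_mem (MulAut.conj g).toMonoidHom hw
    rwa [map_Kt, ← hg.eq, mul_inv_cancel_right] at this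
  have hsq : d.z * d.z = 1 := invol_mul_self d.orderOf_z
  -- `x` acts as an involution
  set W := Kt d.z
  let σ : W ≃* W :=
    { toFun := fun w => ⟨d.x * w * d.x⁻¹, hmaps _ h.commute_zx w w.2⟩
      invFun := fun w => ⟨d.x⁻¹ * w * d.x, by
        simpa using hmaps _ h.commute_zx.inv_right w w.2⟩
      left_inv := fun w => Subtype.ext (by show d.x⁻¹ * (d.x * w * d.x⁻¹) * d.x = w; group)
      right_inv := fun w => Subtype.ext (by show d.x * (d.x⁻¹ * w * d.x) * d.x⁻¹ = w; group)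
      map_mul' := fun u v => Subtype.ext (by
        show d.x * ((u : G) * v) * d.x⁻¹ = d.x * u * d.x⁻¹ * (d.x * v * d.x⁻¹); group) }
  have hσ : ∀ w, σ (σ w) = w := fun w => Subtype.ext (by
    show d.x * (d.x * w * d.x⁻¹) * d.x⁻¹ = w
    have hc : Commute d.z (w : G) := (h.mem_Kt_z.1 w.2).1
    rw [show d.x * (d.x * (w : G) * d.x⁻¹) * d.x⁻¹ = d.x ^ (2 : ℤ) * w * (d.x ^ (2 : ℤ))⁻¹ by
      rw [zpow_two]; group, ← h.z_eq, hc.eq, mul_inv_cancel_right])
  have h1 : Nat.card (FixBy σ) = 1 := by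
    rw [Nat.card_eq_one_iff_unique]
    refine ⟨⟨fun a b => ?_⟩, ⟨⟨1, map_one σ⟩⟩⟩
    have key : ∀ c : FixBy σ, c.1 = 1 := fun c => Subtype.ext <| by
      have e : d.x * (c.1 : G) * d.x⁻¹ = c.1 := congrArg Subtype.val c.2
      have hc : (c.1 : G) ∈ centralizer ({d.x} : Set G) :=
        mem_centralizer_singleton_iff.2 (mul_inv_eq_iff_eq_mul.1 e).symm
      rw [h.cx] at hc
      exact h.eq_one_of_mem_P (h.mem_Kt_z.1 c.1.2).2 (zpowers_le.2 d.x_mem hc)
    exact Subtype.ext ((key a).trans (key b).symm)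
  have h2 := card_eq_fix_mul_inv (h.odd_Kt d.orderOf_z) σ hσ
  rw [h1, one_mul] at h2
  have hsurj : Function.Surjective (Subtype.val : InvBy σ → W) :=
    ((Nat.bijective_iff_injective_and_card _).2 ⟨Subtype.val_injective, h2.symm⟩).2
  obtain ⟨⟨u, hu⟩, e⟩ := hsurj ⟨a, ha⟩
  obtain rfl : u = ⟨a, ha⟩ := e
  exact congrArg Subtype.val hu

theorem commute_of_Kt_z {a b : G} (ha : a ∈ Kt d.z) (hb : b ∈ Kt d.z) : Commute a b := by
  have e := h.x_inverts (mul_mem ha hb)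
  rw [show d.x * (a * b) * d.x⁻¹ = (d.x * a * d.x⁻¹) * (d.x * b * d.x⁻¹) by group,
    h.x_inverts ha, h.x_inverts hb, ← mul_inv_rev, inv_inj] at e
  exact e.symm

theorem commute_of_Kt {t a b : G} (ht : orderOf t = 2) (ha : a ∈ Kt t) (hb : b ∈ Kt t) :
    Commute a b := by
  obtain ⟨g, rfl⟩ := isConj_iff.1 (h.hone t ht)
  rw [← map_Kt] at ha hb
  obtain ⟨a, ha', rfl⟩ := ha
  obtain ⟨b, hb', rfl⟩ := hb
  exact (h.commute_of_Kt_z ha' hb').map (MulAut.conj g).toMonoidHom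

theorem normalizes_Kt_z {g : G} (hg : Commute d.z g) {w : G} (hw : w ∈ Kt d.z) :
    g * w * g⁻¹ ∈ Kt d.z := by
  have := mem_map_of_mem (MulAut.conj g).toMonoidHom hw
  rwa [map_Kt, ← hg.eq, mul_inv_cancel_right] at this

theorem exists_mul {g : G} (hg : Commute d.z g) :
    ∃ a ∈ Kt d.z, ∃ s ∈ (P : Subgroup G), g = a * s := by
  classical
  haveI := Fintype.ofFinite G
  haveI : Fact (Nat.Prime 2) := ⟨Nat.prime_two⟩
  obtain ⟨π, hπP, hπid, hπo⟩ := CfsgLib.Blocks.exists_projection d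
  let c : centralizer ({d.z} : Set G) := ⟨g, mem_centralizer_singleton_iff.2 hg.eq.symm⟩
  have hsC : π c ∈ centralizer ({d.z} : Set G) :=
    mem_centralizer_singleton_iff.2 (d.commute_z (hπP c)).eq.symm
  refine ⟨g * (π c)⁻¹, h.mem_Kt_z.2 ⟨hg.mul_right (d.commute_z (hπP c)).inv_right, ?_⟩, π c, hπP c,
    by group⟩
  have h1 := hπo (c * (⟨π c, hsC⟩ : centralizer ({d.z} : Set G))⁻¹) (by
    rw [map_mul, map_inv, hπid ⟨π c, hsC⟩ (hπP c), mul_inv_cancel])
  rwa [← Subgroup.orderOf_coe] at h1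

theorem mul_inj {a b s u : G} (ha : a ∈ Kt d.z) (hb : b ∈ Kt d.z) (hs : s ∈ (P : Subgroup G))
    (hu : u ∈ (P : Subgroup G)) (e : a * s = b * u) : a = b ∧ s = u := by
  have e1 : b⁻¹ * a = u * s⁻¹ :=
    calc b⁻¹ * a = b⁻¹ * (a * s) * s⁻¹ := by group
      _ = u * s⁻¹ := by rw [e]; group
  have h1 : b⁻¹ * a = 1 :=
    h.eq_one_of_mem_P (h.mem_Kt_z.1 (mul_mem (inv_mem hb) ha)).2 (e1 ▸ mul_mem hu (inv_mem hs))
  obtain rfl : a = b := (inv_mul_eq_one.1 h1).symm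
  exact ⟨rfl, mul_left_cancel e⟩

theorem card_cent : Nat.card (centralizer ({d.z} : Set G)) = 8 * Nat.card (Kt d.z) := by
  let f : Kt d.z × (P : Subgroup G) → centralizer ({d.z} : Set G) := fun p => ⟨(p.1 : G) * p.2,
    mem_centralizer_singleton_iff.2
      (((h.mem_Kt_z.1 p.1.2).1).mul_right (d.commute_z p.2.2)).eq.symm⟩
  have hf : Function.Bijective f := by
    refine ⟨?_, ?_⟩
    · rintro ⟨a, s⟩ ⟨b, u⟩ e
      obtain ⟨e1, e2⟩ := h.mul_inj a.2 b.2 s.2 u.2 (congrArg Subtype.val e)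
      exact Prod.ext (Subtype.ext e1) (Subtype.ext e2)
    · rintro ⟨g, hg⟩
      obtain ⟨a, ha, s, hs, rfl⟩ := h.exists_mul (mem_centralizer_singleton_iff.1 hg).symm
      exact ⟨(⟨a, ha⟩, ⟨s, hs⟩), rfl⟩
  rw [← Nat.card_eq_of_bijective f hf, Nat.card_prod, h.card_P, mul_comm]

end Hyp

/-- The part of `Kt z` centralized by the reflection `r i`. -/
def A (d : DP (P : Subgroup G)) (i : ℤ) : Subgroup G :=
  Kt d.z ⊓ centralizer ({d.r i} : Set G)

/-- The subgroup generated by the odd centralizers of the involutions of `TG i`. -/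
def Wg (d : DP (P : Subgroup G)) (i : ℤ) : Subgroup G :=
  Kt d.z ⊔ Kt (d.r i) ⊔ Kt (d.z * d.r i)

theorem orderOf_zr (d : DP (P : Subgroup G)) (i : ℤ) : orderOf (d.z * d.r i) = 2 := by
  rw [d.z_mul_r]; exact d.orderOf_r _

namespace Hyp

variable {d : DP (P : Subgroup G)} (h : Hyp d)
include h

theorem conj_succ (i : ℤ) {a : G} :
    d.r (i + 1) * a * (d.r (i + 1))⁻¹ = d.x * (d.r i * a * (d.r i)⁻¹) * d.x⁻¹ := by
  rw [show d.r (i + 1) = d.x * d.r i by rw [add_comm, ← d.zpow_mul_r, zpow_one]]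
  group

theorem mem_A {i : ℤ} {a : G} : a ∈ A d i ↔ a ∈ Kt d.z ∧ Commute (d.r i) a := by
  rw [A, mem_inf, mem_centralizer_singleton_iff]
  exact and_congr_right fun _ => eq_comm

theorem A_add_two (i : ℤ) : A d (i + 2) = A d i := by
  ext a
  rw [h.mem_A, h.mem_A]
  refine and_congr_right fun ha => ?_
  have hc := (h.mem_Kt_z.1 ha).1
  rw [h.r_two]
  refine ⟨fun e => ?_, fun e => hc.mul_left e⟩
  have := hc.mul_left e
  rwa [← mul_assoc, invol_mul_self d.orderOf_z, one_mul] at this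

/-- The elements inverted by one reflection are those fixed by the next. -/
theorem mem_A_succ_iff (i : ℤ) {a : G} (ha : a ∈ Kt d.z) :
    a ∈ A d (i + 1) ↔ d.r i * a * (d.r i)⁻¹ = a⁻¹ := by
  have hr : d.r i * a * (d.r i)⁻¹ ∈ Kt d.z := h.normalizes_Kt_z (d.commute_z (d.r_mem i)) ha
  rw [h.mem_A, and_iff_right ha, Commute, SemiconjBy, ← mul_inv_eq_iff_eq_mul, h.conj_succ,
    h.x_inverts hr, inv_eq_iff_eq_inv]

theorem card_K (i : ℤ) : Nat.card (Kt d.z) = Nat.card (A d i) * Nat.card (A d (i + 1)) := by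
  set τ := conjEquiv (Kt d.z) (d.r i) (invol_mul_self (d.orderOf_r i))
    fun w hw => h.normalizes_Kt_z (d.commute_z (d.r_mem i)) hw
  rw [card_eq_fix_mul_inv (h.odd_Kt d.orderOf_z) τ (conjEquiv_conjEquiv _ _ _ _)]
  congr 1
  · exact Nat.card_congr
      { toFun := fun u => ⟨u.1.1, u.1.2, (conjEquiv_eq_self _ _ _ _ u.1).1 u.2⟩
        invFun := fun a => ⟨⟨a.1, a.2.1⟩, (conjEquiv_eq_self _ _ _ _ _).2 a.2.2⟩
        left_inv := fun u => rfl
        right_inv := fun u => rfl }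
  · exact Nat.card_congr
      { toFun := fun u => ⟨u.1.1, (h.mem_A_succ_iff i u.1.2).2 (congrArg Subtype.val u.2)⟩
        invFun := fun a => ⟨⟨a.1, (h.mem_A.1 a.2).1⟩,
          Subtype.ext ((h.mem_A_succ_iff i (h.mem_A.1 a.2).1).1 a.2)⟩
        left_inv := fun u => rfl
        right_inv := fun u => rfl }

theorem odd_A (i : ℤ) : Odd (Nat.card (A d i)) :=
  (h.odd_Kt d.orderOf_z).of_dvd_nat (Subgroup.card_dvd_of_le inf_le_left)

theorem card_pair (i : ℤ) :
    Nat.card (centralizer ({d.z, d.r i} : Set G)) = 4 * Nat.card (A d i) := by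
  haveI := d.isKleinFour_TG i
  have h4 : Nat.card (d.TG i) = 4 := IsKleinFour.card_four
  have hmem : ∀ g : G, g ∈ centralizer ({d.z, d.r i} : Set G) ↔
      Commute d.z g ∧ Commute (d.r i) g := fun g => by
    simp only [mem_centralizer_iff, Set.mem_insert_iff, Set.mem_singleton_iff, forall_eq_or_imp,
      forall_eq]
    exact Iff.rfl
  let f : A d i × d.TG i → centralizer ({d.z, d.r i} : Set G) := fun p => ⟨(p.1 : G) * p.2, by
    obtain ⟨ha, hr⟩ := h.mem_A.1 p.1.2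
    refine (hmem _).2 ⟨(h.mem_Kt_z.1 ha).1.mul_right (d.commute_z (d.TG_le i p.2.2)),
      hr.mul_right ?_⟩
    exact klein_comm (d.isKleinFour_TG i) (d.r_mem_TG i) p.2.2⟩
  have hf : Function.Bijective f := by
    refine ⟨?_, ?_⟩
    · rintro ⟨a, s⟩ ⟨b, u⟩ e
      obtain ⟨e1, e2⟩ := h.mul_inj (h.mem_A.1 a.2).1 (h.mem_A.1 b.2).1 (d.TG_le i s.2)
        (d.TG_le i u.2) (congrArg Subtype.val e)
      exact Prod.ext (Subtype.ext e1) (Subtype.ext e2)
    · rintro ⟨g, hg⟩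
      obtain ⟨hz, hr⟩ := (hmem g).1 hg
      obtain ⟨a, ha, s, hs, rfl⟩ := h.exists_mul hz
      have e : d.r i * a * (d.r i)⁻¹ * (d.r i * s) = a * (s * d.r i) := by
        rw [show d.r i * a * (d.r i)⁻¹ * (d.r i * s) = d.r i * (a * s) by group, hr.eq, mul_assoc]
      obtain ⟨e1, e2⟩ := h.mul_inj (h.normalizes_Kt_z (d.commute_z (d.r_mem i)) ha) ha
        (mul_mem (d.r_mem i) hs) (mul_mem hs (d.r_mem i)) e
      exact ⟨(⟨a, h.mem_A.2 ⟨ha, mul_inv_eq_iff_eq_mul.1 e1⟩⟩,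
        ⟨s, d.mem_TG_of_commute hs e2.symm⟩), rfl⟩
  rw [← Nat.card_eq_of_bijective f hf, Nat.card_prod, h4, mul_comm]

theorem sum_A (i : ℤ) : Nat.card (A d i) + Nat.card (A d (i + 1)) =
    Nat.card (A d 0) + Nat.card (A d 1) := by
  have hev : ∀ k : ℤ, A d (2 * k) = A d 0 ∧ A d (2 * k + 1) = A d 1 := fun k => by
    induction k using Int.induction_on with
    | zero => exact ⟨rfl, rfl⟩
    | succ k ih =>
      exact ⟨by rw [show 2 * ((k : ℤ) + 1) = 2 * k + 2 by ring, h.A_add_two]; exact ih.1,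
        by rw [show 2 * ((k : ℤ) + 1) + 1 = 2 * k + 1 + 2 by ring, h.A_add_two]; exact ih.2⟩
    | pred k ih =>
      refine ⟨?_, ?_⟩
      · rw [← ih.1, ← h.A_add_two (2 * (-(k : ℤ) - 1))]; congr 1; ring
      · rw [← ih.2, ← h.A_add_two (2 * (-(k : ℤ) - 1) + 1)]; congr 1; ring
  rcases Int.even_or_odd i with ⟨k, rfl⟩ | ⟨k, rfl⟩
  · rw [← two_mul, (hev k).1, (hev k).2]
  · rw [(hev k).2, show 2 * k + 1 + 1 = 2 * (k + 1) by ring, (hev (k + 1)).1, add_comm]

/-- Brauer's formula with the degree arithmetic. -/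
theorem order_formula (i : ℤ) : ∃ (o s m : ℕ) (δ : ℤ), (δ = 1 ∨ δ = -1) ∧ 0 < m ∧
    Nat.card (A d i) + Nat.card (A d (i + 1)) = 2 * s ∧ Odd o ∧ Nat.card G = 8 * o ∧
    (o : ℤ) * m ^ 2 =
      Nat.card (A d i) * Nat.card (A d (i + 1)) * s ^ 2 * (8 * m + δ) * (4 * m + δ) ∧
    ((4 * m + δ) ^ 2 * s ^ 2 -
        16 * m ^ 2 * (Nat.card (A d i) * Nat.card (A d (i + 1))) : ℤ) ∣
      δ * (8 * m + δ) * (4 * m + δ) ^ 2 * s ^ 2 := by
  have h01 := h.card_K 0
  rw [zero_add] at h01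
  have hprod : Nat.card (A d i) * Nat.card (A d (i + 1)) =
      Nat.card (A d 0) * Nat.card (A d 1) := (h.card_K i).symm.trans h01
  obtain ⟨o, s, m, δ, hδ, hm, hs, ho, hg, h1, h2⟩ := eight_formula d h.n_eq h.cx h.hone
    (h.odd_A 0) (h.odd_A 1) (by rw [h.card_cent, h01, mul_assoc]) (h.card_pair 0) (h.card_pair 1)
  refine ⟨o, s, m, δ, hδ, hm, (h.sum_A i).trans hs, ho, hg, ?_, ?_⟩
  · rw [← Nat.cast_mul, hprod]; push_cast; exact h1
  · rw [← Nat.cast_mul, hprod]; push_cast; exact h2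

/-- The bounds on the order. -/
theorem order_bounds (i : ℤ) :
    42 * (Nat.card (A d i) * Nat.card (A d (i + 1))) *
        (Nat.card (A d i) + Nat.card (A d (i + 1))) ^ 2 ≤ Nat.card G ∧
      Nat.card G ≤ 90 * (Nat.card (A d i) * Nat.card (A d (i + 1))) *
        (Nat.card (A d i) + Nat.card (A d (i + 1))) ^ 2 := by
  obtain ⟨o, s, m, δ, hδ, hm, hs, -, hg, h1, -⟩ := h.order_formula i
  rw [hs, hg]
  set a := Nat.card (A d i)
  set b := Nat.card (A d (i + 1))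
  have hm' : (1 : ℤ) ≤ m := by exact_mod_cast hm
  have hX : 21 * (m : ℤ) ^ 2 ≤ (8 * m + δ) * (4 * m + δ) ∧
      (8 * m + δ) * (4 * m + δ) ≤ 45 * (m : ℤ) ^ 2 := by
    rcases hδ with rfl | rfl <;> constructor <;> nlinarith
  have hpos : (0 : ℤ) ≤ (a : ℤ) * b * s ^ 2 := by positivity
  have k1 := mul_le_mul_of_nonneg_left hX.1 hpos
  have k2 := mul_le_mul_of_nonneg_left hX.2 hpos
  have hm2 : (0 : ℤ) < (m : ℤ) ^ 2 := by positivity
  constructor
  · have : ((42 * (a * b) * (2 * s) ^ 2 : ℕ) : ℤ) * m ^ 2 ≤ ((8 * o : ℕ) : ℤ) * m ^ 2 := by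
      push_cast; linarith [h1]
    exact_mod_cast le_of_mul_le_mul_right this hm2
  · have : ((8 * o : ℕ) : ℤ) * m ^ 2 ≤ ((90 * (a * b) * (2 * s) ^ 2 : ℕ) : ℤ) * m ^ 2 := by
      push_cast; linarith [h1]
    exact_mod_cast le_of_mul_le_mul_right this hm2

/-! ### The subgroups `Wg i` -/

theorem A_le_Kt_r (i : ℤ) : A d i ≤ Kt (d.r i) ∧ A d i ≤ Kt (d.z * d.r i) := by
  refine ⟨fun a ha => ?_, fun a ha => ?_⟩ <;> obtain ⟨hK, hr⟩ := h.mem_A.1 ha <;>
    obtain ⟨hz, ho⟩ := h.mem_Kt_z.1 hK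
  · exact subset_closure ⟨hr, ho⟩
  · exact subset_closure ⟨hz.mul_left hr, ho⟩

theorem Wg_le_centralizer (i : ℤ) : Wg d i ≤ centralizer (A d i : Set G) := by
  have key : ∀ t : G, orderOf t = 2 → A d i ≤ Kt t → Kt t ≤ centralizer (A d i : Set G) :=
    fun t ht hle b hb => mem_centralizer_iff.2 fun a ha => (h.commute_of_Kt ht (hle ha) hb).eq
  exact sup_le (sup_le (key _ d.orderOf_z inf_le_left) (key _ (d.orderOf_r i) (h.A_le_Kt_r i).1))
    (key _ (orderOf_zr d i) (h.A_le_Kt_r i).2)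

theorem normalizer_TG_le (i : ℤ) :
    normalizer (d.TG i : Set G) ≤ normalizer (Wg d i : Set G) := by
  intro g hg
  have hmem : ∀ v : G, v ∈ d.TG i → v ≠ 1 → Kt v ≤ Wg d i := by
    intro v hv hv1
    rcases d.mem_TG.1 hv with rfl | rfl | rfl | rfl
    · exact absurd rfl hv1
    · exact le_sup_left.trans le_sup_left
    · exact le_sup_right.trans le_sup_left
    · exact le_sup_right
  have hle : (Wg d i).map (MulAut.conj g).toMonoidHom ≤ Wg d i := by
    have key : ∀ v ∈ d.TG i, v ≠ 1 → (Kt v).map (MulAut.conj g).toMonoidHom ≤ Wg d i :=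
      fun v hv hv1 => by
        rw [map_Kt]
        exact hmem _ ((mem_normalizer_iff.1 hg v).1 hv) fun e => hv1 (conj_eq_one_iff.1 e)
    rw [Wg, Subgroup.map_sup, Subgroup.map_sup]
    exact sup_le (sup_le (key _ (d.z_mem_TG i) (invol_ne_one d.orderOf_z))
      (key _ (d.r_mem_TG i) (invol_ne_one (d.orderOf_r i))))
      (key _ (mul_mem (d.z_mem_TG i) (d.r_mem_TG i)) (invol_ne_one (orderOf_zr d i)))
  haveI := Fintype.ofFinite G
  exact mem_normalizer_fintype fun a ha => hle (mem_map_of_mem (MulAut.conj g).toMonoidHom ha)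

theorem P_le_normalizer_TG (i : ℤ) : (P : Subgroup G) ≤ normalizer (d.TG i : Set G) := by
  have hx : d.x ∈ normalizer (d.TG i : Set G) := by
    haveI := Fintype.ofFinite G
    refine mem_normalizer_fintype fun v hv => ?_
    have hr : d.x * d.r i * d.x⁻¹ = d.z * d.r i := by
      have := d.conj_r 1 i
      rwa [zpow_one, mul_one, h.r_two] at this
    have hz : d.x * d.z * d.x⁻¹ = d.z := by rw [← h.commute_zx.eq, mul_inv_cancel_right]
    rcases d.mem_TG.1 hv with rfl | rfl | rfl | rfl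
    · rw [mul_one, mul_inv_cancel]; exact one_mem _
    · rw [hz]; exact d.z_mem_TG i
    · rw [hr]; exact mul_mem (d.z_mem_TG i) (d.r_mem_TG i)
    · rw [← conj_mul, hz, hr, ← mul_assoc, invol_mul_self d.orderOf_z, one_mul]
      exact d.r_mem_TG i
  intro s hs
  rcases d.cover s hs with ⟨j, rfl⟩ | ⟨j, rfl⟩
  · exact zpow_mem hx j
  · rw [show d.x ^ j * d.y = d.x ^ (j - i) * d.r i by rw [d.zpow_mul_r, sub_add_cancel]; rfl]
    exact mul_mem (zpow_mem hx _) (le_normalizer (d.r_mem_TG i))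

theorem conj_mem_Wg (i : ℤ) {g : G} (hg : g ∈ (P : Subgroup G)) {w : G} (hw : w ∈ Wg d i) :
    g * w * g⁻¹ ∈ Wg d i :=
  (mem_normalizer_iff.1 (h.normalizer_TG_le i (h.P_le_normalizer_TG i hg)) w).1 hw

theorem inf_cent_eq_Kt {i : ℤ} (hW : Odd (Nat.card (Wg d i))) {t : G} (ht : orderOf t = 2) :
    Wg d i ⊓ centralizer ({t} : Set G) ≤ Kt t := fun a ha =>
  subset_closure ⟨(mem_centralizer_singleton_iff.1 ha.2).symm,
    hW.of_dvd_nat (Subgroup.orderOf_dvd_natCard _ ha.1)⟩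

theorem inf_pair_eq {i : ℤ} (hW : Odd (Nat.card (Wg d i))) (j : ℤ) :
    Wg d i ⊓ centralizer ({d.z, d.r j} : Set G) = A d j := by
  refine le_antisymm (fun a ha => ?_) (fun a ha => ?_)
  · have hc := mem_centralizer_iff.1 ha.2
    exact h.mem_A.2 ⟨h.inf_cent_eq_Kt hW d.orderOf_z
      ⟨ha.1, mem_centralizer_singleton_iff.2 (hc _ (by simp)).symm⟩, hc _ (by simp)⟩
  · obtain ⟨hK, hr⟩ := h.mem_A.1 ha
    refine ⟨(le_sup_left.trans le_sup_left : Kt d.z ≤ Wg d i) hK, mem_centralizer_iff.2 ?_⟩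
    rintro _ (rfl | rfl)
    · exact (h.mem_Kt_z.1 hK).1.eq
    · exact hr.eq

theorem inf_z_eq {i : ℤ} (hW : Odd (Nat.card (Wg d i))) :
    Wg d i ⊓ centralizer ({d.z} : Set G) = Kt d.z :=
  le_antisymm (h.inf_cent_eq_Kt hW d.orderOf_z) fun a ha =>
    ⟨(le_sup_left.trans le_sup_left : Kt d.z ≤ Wg d i) ha,
      mem_centralizer_singleton_iff.2 (h.mem_Kt_z.1 ha).1.eq.symm⟩

theorem card_Wg {i : ℤ} (hW : Odd (Nat.card (Wg d i))) :
    Nat.card (Wg d i) = Nat.card (A d i) * Nat.card (A d (i + 1)) ^ 3 := by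
  have key := four_formula_subgroup (Wg d i) hW (invol_mul_self d.orderOf_z)
    (invol_mul_self (d.orderOf_r i)) (d.commute_z (d.r_mem i))
    (fun w hw => h.conj_mem_Wg i d.z_mem hw) (fun w hw => h.conj_mem_Wg i (d.r_mem i) hw)
  have e : ∀ t : G, orderOf t = 2 → Kt t ≤ Wg d i →
      Nat.card (Wg d i ⊓ centralizer ({t} : Set G) : Subgroup G) = Nat.card (Kt d.z) :=
    fun t ht hle => by
      rw [← h.card_Kt ht]
      refine congrArg (fun S : Subgroup G => Nat.card S) (le_antisymm (h.inf_cent_eq_Kt hW ht) ?_)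
      exact fun a ha => ⟨hle ha, mem_centralizer_singleton_iff.2 ((h.mem_Kt ht).1 ha).1.eq.symm⟩
  rw [h.inf_pair_eq hW i, e _ d.orderOf_z (le_sup_left.trans le_sup_left),
    e _ (d.orderOf_r i) (le_sup_right.trans le_sup_left), e _ (orderOf_zr d i) le_sup_right,
    h.card_K i] at key
  have hpos : 0 < Nat.card (A d i) ^ 2 := pow_pos Nat.card_pos 2
  refine Nat.eq_of_mul_eq_mul_right hpos ?_
  rw [key]; ring

/-- The other four-group acting on `Wg i`. -/
theorem card_other {i : ℤ} (hW : Odd (Nat.card (Wg d i))) :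
    Nat.card (Wg d i ⊓ centralizer ({d.r (i + 1)} : Set G) : Subgroup G) =
        Nat.card (A d (i + 1)) ^ 2 ∧
      Nat.card (A d (i + 1)) ∣ Nat.card (A d i) := by
  have hr := d.r_mem (i + 1)
  have key := four_formula_subgroup (Wg d i) hW (invol_mul_self d.orderOf_z)
    (invol_mul_self (d.orderOf_r (i + 1))) (d.commute_z hr)
    (fun w hw => h.conj_mem_Wg i d.z_mem hw) (fun w hw => h.conj_mem_Wg i hr hw)
  have heq : Nat.card (Wg d i ⊓ centralizer ({d.z * d.r (i + 1)} : Set G) : Subgroup G) =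
      Nat.card (Wg d i ⊓ centralizer ({d.r (i + 1)} : Set G) : Subgroup G) := by
    have hx : ∀ w ∈ Wg d i, d.x * w * d.x⁻¹ ∈ Wg d i := fun w hw => h.conj_mem_Wg i d.x_mem hw
    have hxr : d.x * d.r (i + 1) * d.x⁻¹ = d.z * d.r (i + 1) := by
      have := d.conj_r 1 (i + 1)
      rwa [zpow_one, mul_one, h.r_two] at this
    let S := (Wg d i ⊓ centralizer ({d.r (i + 1)} : Set G) : Subgroup G)
    let T := (Wg d i ⊓ centralizer ({d.z * d.r (i + 1)} : Set G) : Subgroup G)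
    have hmap : S.map (MulAut.conj d.x).toMonoidHom = T := by
      ext a
      constructor
      · rintro ⟨b, ⟨hb, hbc⟩, rfl⟩
        refine ⟨hx b hb, mem_centralizer_singleton_iff.2 ?_⟩
        show d.x * b * d.x⁻¹ * (d.z * d.r (i + 1)) = d.z * d.r (i + 1) * (d.x * b * d.x⁻¹)
        rw [← hxr, conj_mul, conj_mul, mem_centralizer_singleton_iff.1 hbc]
      · rintro ⟨ha, hac⟩
        refine ⟨d.x⁻¹ * a * d.x, ⟨by simpa using h.conj_mem_Wg i (inv_mem d.x_mem) ha,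
          mem_centralizer_singleton_iff.2 ?_⟩, by show d.x * (d.x⁻¹ * a * d.x) * d.x⁻¹ = a; group⟩
        have hc : a * (d.z * d.r (i + 1)) = d.z * d.r (i + 1) * a :=
          mem_centralizer_singleton_iff.1 hac
        rw [← hxr] at hc
        calc d.x⁻¹ * a * d.x * d.r (i + 1)
            = d.x⁻¹ * (a * (d.x * d.r (i + 1) * d.x⁻¹)) * d.x := by group
          _ = _ := by rw [hc]; group
    show Nat.card T = Nat.card S
    rw [← hmap, card_map_of_injective (MulAut.conj d.x).injective]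
  rw [heq, h.inf_pair_eq hW, h.inf_z_eq hW, h.card_Wg hW, h.card_K i] at key
  set a := Nat.card (A d i)
  set b := Nat.card (A d (i + 1))
  set c := Nat.card (Wg d i ⊓ centralizer ({d.r (i + 1)} : Set G) : Subgroup G)
  have hc : c = b ^ 2 := by
    have hpos : 0 < a * b := Nat.mul_pos Nat.card_pos Nat.card_pos
    have h1 : (b ^ 2) ^ 2 = c ^ 2 := Nat.eq_of_mul_eq_mul_left hpos (by
      rw [show a * b * (b ^ 2) ^ 2 = a * b ^ 3 * b ^ 2 by ring, key]; ring)
    exact ((Nat.pow_left_injective two_ne_zero) h1).symm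
  refine ⟨hc, Nat.dvd_of_mul_dvd_mul_right (k := b) ?_ ?_⟩
  · exact Nat.card_pos
  · have h1 : c ∣ a * b := by
      rw [← h.card_K i, ← h.card_Kt (d.orderOf_r (i + 1))]
      exact Subgroup.card_dvd_of_le (h.inf_cent_eq_Kt hW (d.orderOf_r (i + 1)))
    rwa [hc, sq] at h1

end Hyp

end CfsgLib.CentFour
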