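import Cfsg.Agent.Lib.CentFour.Local

/-!
# One of `A i`, `A (i + 1)` is trivial in a simple group

If `Wg i` does not have odd order and `A i` is the smaller part, `C(A i)` has index at most
sixteen, and the action on its cosets contradicts the fusion in `TG i`.  If both `Wg i` have odd
order, the two parts have the same order, and the normalizer of `Wg i` contains the whole
two-fusion, against Brauer's formula.
-/

set_option autoImplicit false
set_option linter.unusedSectionVars false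
set_option linter.style.haveILetI false

namespace CfsgLib.CentFour

open Subgroup CfsgLib.Involutions CfsgLib.DGroup

universe u

/-- A fixed point free involution of four points. -/
def Fpf (σ : Equiv.Perm (Fin 4)) : Prop := (∀ a, σ a ≠ a) ∧ ∀ a, σ (σ a) = a

instance (σ : Equiv.Perm (Fin 4)) : Decidable (Fpf σ) := by unfold Fpf; infer_instance

theorem eq_of_agree_at :
    ∀ σ τ : Equiv.Perm (Fin 4), Fpf σ ∧ Fpf τ ∧ σ 0 = τ 0 → σ = τ := by
  decide +kernel

theorem fpf_involutions (σ τ υ : Equiv.Perm (Fin 4)) (h1 : ∀ a, σ a ≠ a) (h1' : ∀ a, σ (σ a) = a)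
    (h2 : ∀ a, τ a ≠ a) (h2' : ∀ a, τ (τ a) = a) (h3 : ∀ a, (σ * τ) a ≠ a)
    (h3' : ∀ a, (σ * τ) ((σ * τ) a) = a) (h4 : ∀ a, υ a ≠ a) (h4' : ∀ a, υ (υ a) = a) :
    υ = σ ∨ υ = τ ∨ υ = σ * τ := by
  have e1 : σ 0 ≠ τ 0 := fun e => h3 0 (by rw [Equiv.Perm.mul_apply, ← e, h1'])
  have e2 : (σ * τ) 0 ≠ σ 0 := fun e => h2 0 (σ.injective e)
  have e3 : (σ * τ) 0 ≠ τ 0 := fun e => h1 (τ 0) e
  have key : ∀ p q r s : Fin 4, p ≠ 0 → q ≠ 0 → r ≠ 0 → s ≠ 0 → p ≠ q → r ≠ p → r ≠ q →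
      s = p ∨ s = q ∨ s = r := by decide
  rcases key _ _ _ _ (h1 0) (h2 0) (h3 0) (h4 0) e1 e2 e3 with h | h | h
  · exact Or.inl (eq_of_agree_at _ _ ⟨⟨h4, h4'⟩, ⟨h1, h1'⟩, h⟩)
  · exact Or.inr (Or.inl (eq_of_agree_at _ _ ⟨⟨h4, h4'⟩, ⟨h2, h2'⟩, h⟩))
  · exact Or.inr (Or.inr (eq_of_agree_at _ _ ⟨⟨h4, h4'⟩, ⟨h3, h3'⟩, h⟩))

variable {G : Type u} [Group G] [Finite G] {P : Sylow 2 G}

theorem TG_add_two {d : DP (P : Subgroup G)} (h : Hyp d) (j : ℤ) : d.TG (j + 2) = d.TG j := by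
  refine eq_of_le_of_card_ge ?_ (by
    rw [(d.isKleinFour_TG j).card_four, (d.isKleinFour_TG (j + 2)).card_four])
  rw [DP.TG, closure_le]
  rintro a (rfl | rfl)
  · exact d.z_mem_TG j
  · rw [h.r_two]; exact mul_mem (d.z_mem_TG j) (d.r_mem_TG j)

namespace Hyp

variable {d : DP (P : Subgroup G)} (h : Hyp d)
include h

theorem not_comm : ¬ IsMulCommutative G := by
  intro hc
  have hle : (P : Subgroup G) ≤ zpowers d.x := by
    rw [← h.cx]
    exact fun g _ => mem_centralizer_singleton_iff.2 (hc.is_comm.comm g d.x)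
  have := Subgroup.card_dvd_of_le hle
  rw [h.card_P, Nat.card_zpowers, h.orderOf_x] at this
  norm_num at this

theorem eight_dvd : 8 ∣ Nat.card G := h.card_P ▸ Subgroup.card_subgroup_dvd_card _

theorem false_of_index_le_two [IsSimpleGroup G] {M : Subgroup G} (hM : M ≠ ⊤)
    (h2 : M.index ≤ 2) : False := by
  have h0 : M.index ≠ 0 := Subgroup.index_ne_zero_of_finite
  have h1 : M.index ≠ 1 := fun e => hM (Subgroup.index_eq_one.1 e)
  have he : M.index = 2 := by omega
  have hn := Subgroup.normal_of_index_eq_two he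
  rcases IsSimpleGroup.eq_bot_or_eq_top_of_normal M hn with e | e
  · rw [e, Subgroup.index_bot] at he
    have := h.eight_dvd
    rw [he] at this
    norm_num at this
  · exact hM e

set_option maxHeartbeats 1000000 in
/-- A large `C(A i)` with fused four-group is impossible when `A i` is the smaller part. -/
theorem false_of_bad [IsSimpleGroup G] (i : ℤ) (hA : A d i ≠ ⊥)
    (hbig : 22 * Nat.card (A d i) * Nat.card (A d (i + 1)) ^ 3 ≤
      Nat.card (centralizer (A d i : Set G)))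
    {c : G} (hcL : c ∈ Lc d i) (hc1 : c * d.z * c⁻¹ = d.r i)
    (hc2 : c * d.r i * c⁻¹ = d.z * d.r i)
    (hab : Nat.card (A d i) ≤ Nat.card (A d (i + 1))) : False := by
  classical
  haveI : Fact (Nat.Prime 2) := ⟨Nat.prime_two⟩
  set H := centralizer (A d i : Set G) with hH
  have hzH : d.z ∈ H := h.TG_le_cent i (d.z_mem_TG i)
  have hrH : d.r i ∈ H := h.TG_le_cent i (d.r_mem_TG i)
  have hcH : c ∈ H := h.Lc_le i hcL
  have hKH : Kt d.z ≤ H := h.Kt_z_le_cent i
  have hHtop : H ≠ ⊤ := by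
    intro e
    have hle : A d i ≤ center G := fun a ha => mem_center_iff.2 fun g => by
      have hg : g ∈ H := e ▸ mem_top g
      exact ((mem_centralizer_iff.1 hg) a ha).symm
    rcases IsSimpleGroup.eq_bot_or_eq_top_of_normal (center G) inferInstance with e' | e'
    · exact hA (le_bot_iff.1 (e' ▸ hle))
    · exact h.not_comm ⟨⟨fun a b => (mem_center_iff.1 (e' ▸ mem_top b : b ∈ center G) a)⟩⟩
  -- the index
  set n := H.index with hn
  have hGH : Nat.card H * n = Nat.card G := H.card_mul_index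
  have hle16 : n ≤ 16 := by
    have hub := (h.order_bounds i).2
    set a := Nat.card (A d i)
    set b := Nat.card (A d (i + 1))
    have ha : 0 < a := Nat.card_pos
    have hb : 0 < b := Nat.card_pos
    have h1 : 22 * a * b ^ 3 * n ≤ 90 * (a * b) * (2 * b) ^ 2 :=
      calc 22 * a * b ^ 3 * n ≤ Nat.card H * n := Nat.mul_le_mul_right n hbig
        _ ≤ 90 * (a * b) * (a + b) ^ 2 := hGH ▸ hub
        _ ≤ _ := Nat.mul_le_mul_left _ (Nat.pow_le_pow_left (by omega) 2)
    have h2 : (a * b ^ 3) * (22 * n) ≤ (a * b ^ 3) * 360 :=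
      le_trans (le_of_eq (by ring)) (le_trans h1 (le_of_eq (by ring)))
    have := le_of_mul_le_mul_left h2 (Nat.mul_pos ha (pow_pos hb 3))
    omega
  have h8 : ¬ 8 ∣ Nat.card H := h.not_eight_dvd i hA
  obtain ⟨S, e, -, hez, her, -, -, hS⟩ := exists_dp_four (a := (⟨d.z, hzH⟩ : H))
    (b := ⟨d.r i, hrH⟩) (by rw [Subgroup.orderOf_mk]; exact d.orderOf_z)
    (by rw [Subgroup.orderOf_mk]; exact d.orderOf_r i)
    (Subtype.ext (d.commute_z (d.r_mem i)).eq) (fun e' => d.z_ne_r i (congrArg Subtype.val e')) h8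
  have hS4 : Nat.card (S : Subgroup H) = 4 := by
    rw [hS]
    exact (isKleinFour_closure_pair (by rw [Subgroup.orderOf_mk]; exact d.orderOf_z)
      (by rw [Subgroup.orderOf_mk]; exact d.orderOf_r i)
      (Subtype.ext (d.commute_z (d.r_mem i)).eq)
      (fun e' => d.z_ne_r i (congrArg Subtype.val e'))).card_four
  obtain ⟨k, hk⟩ : 4 ∣ Nat.card H := hS4 ▸ Subgroup.card_subgroup_dvd_card _
  have hko : Odd k := Nat.odd_iff.2 <| Nat.two_dvd_ne_zero.1 fun ⟨l, hl⟩ =>
    h8 ⟨l, by rw [hk, hl]; ring⟩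
  have hn4 : n % 4 = 2 := by
    obtain ⟨o, -, -, -, -, -, -, ho, hg, -, -⟩ := h.order_formula i
    rw [hg, hk] at hGH
    have h1 : k * n = 2 * o := by linarith
    obtain ⟨n', hn'⟩ : 2 ∣ n :=
      (Nat.prime_two.dvd_mul.1 ⟨o, h1⟩).resolve_left
        (Nat.two_dvd_ne_zero.2 (Nat.odd_iff.1 hko))
    have h2 : k * n' = o := by rw [hn'] at h1; linarith
    have h3 := Nat.odd_iff.1 (Nat.odd_mul.1 (h2 ▸ ho)).2
    omega
  -- involutions of `H` are conjugate in `H`
  have hconjH : ∀ t : H, orderOf t = 2 → ∃ g : H, g * t * g⁻¹ = ⟨d.z, hzH⟩ := by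
    intro t ht
    obtain ⟨g, hg⟩ := exists_conj_mem_sylow_one S ht
    replace hg : g * t * g⁻¹ ∈ (S : Subgroup H) := hg
    rw [hS] at hg
    have hne : g * t * g⁻¹ ≠ 1 := invol_ne_one (conj_invol g ht)
    rcases (mem_closure_commute_pair (by rw [Subgroup.orderOf_mk]; exact d.orderOf_z)
      (by rw [Subgroup.orderOf_mk]; exact d.orderOf_r i)
      (Subtype.ext (d.commute_z (d.r_mem i)).eq)).1 hg with e1 | e1 | e1 | e1
    · exact absurd e1 hne
    · exact ⟨g, e1⟩
    · refine ⟨(⟨c, hcH⟩ : H)⁻¹ * g, ?_⟩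
      rw [show (⟨c, hcH⟩ : H)⁻¹ * g * t * ((⟨c, hcH⟩ : H)⁻¹ * g)⁻¹ =
        (⟨c, hcH⟩ : H)⁻¹ * (g * t * g⁻¹) * ⟨c, hcH⟩ by group, e1]
      apply Subtype.ext
      show c⁻¹ * d.r i * c = d.z
      rw [← hc1]; group
    · refine ⟨(⟨c, hcH⟩ : H)⁻¹ * (⟨c, hcH⟩ : H)⁻¹ * g, ?_⟩
      rw [show (⟨c, hcH⟩ : H)⁻¹ * (⟨c, hcH⟩ : H)⁻¹ * g * t *
          ((⟨c, hcH⟩ : H)⁻¹ * (⟨c, hcH⟩ : H)⁻¹ * g)⁻¹ =
        (⟨c, hcH⟩ : H)⁻¹ * ((⟨c, hcH⟩ : H)⁻¹ * (g * t * g⁻¹) * ⟨c, hcH⟩) * ⟨c, hcH⟩ by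
          simp only [mul_assoc, mul_inv_rev, inv_inv], e1]
      apply Subtype.ext
      show c⁻¹ * (c⁻¹ * (d.z * d.r i) * c) * c = d.z
      rw [← hc2, show c⁻¹ * (c * d.r i * c⁻¹) * c = d.r i by group, ← hc1]
      group
  -- `x` normalizes `H`
  have hxH : ∀ g ∈ H, d.x⁻¹ * g * d.x ∈ H := by
    intro g hg
    refine mem_centralizer_iff.2 fun a ha => ?_
    have e1 := h.x_inverts (h.mem_A.1 ha).1
    have hc' : a⁻¹ * g = g * a⁻¹ := (mem_centralizer_iff.1 hg) a⁻¹ (inv_mem ha)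
    calc a * (d.x⁻¹ * g * d.x) = d.x⁻¹ * ((d.x * a * d.x⁻¹) * g) * d.x := by group
      _ = d.x⁻¹ * (g * (d.x * a * d.x⁻¹)) * d.x := by rw [e1, hc']
      _ = _ := by group
  have hfix1 : ∀ g ∈ H, g • ((1 : G) : G ⧸ H) = ((1 : G) : G ⧸ H) := fun g hg => by
    rw [MulAction.Quotient.smul_coe, QuotientGroup.eq, smul_eq_mul, mul_one, mul_one]
    exact inv_mem hg
  have hfixx : ∀ g ∈ H, g • ((d.x : G) : G ⧸ H) = ((d.x : G) : G ⧸ H) := fun g hg => by
    rw [MulAction.Quotient.smul_coe, QuotientGroup.eq, smul_eq_mul, mul_inv_rev, mul_assoc]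
    have := hxH g⁻¹ (inv_mem hg)
    rwa [mul_assoc] at this
  have hfixz : ∀ p : G ⧸ H, d.z • p = p →
      p = ((1 : G) : G ⧸ H) ∨ p = ((d.x : G) : G ⧸ H) := by
    intro p
    refine QuotientGroup.induction_on p fun g hg => ?_
    rw [MulAction.Quotient.smul_coe, QuotientGroup.eq, smul_eq_mul] at hg
    have hgz : g⁻¹ * d.z * g ∈ H := by
      have := inv_mem hg
      rwa [mul_inv_rev, inv_inv, ← mul_assoc] at this
    obtain ⟨w, hw⟩ := hconjH ⟨_, hgz⟩ (by
      rw [Subgroup.orderOf_mk]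
      simpa using conj_invol g⁻¹ d.orderOf_z)
    have hw' : (w : G) * (g⁻¹ * d.z * g) * (w : G)⁻¹ = d.z := congrArg Subtype.val hw
    obtain ⟨a, ha, s, hs, e1⟩ := h.exists_mul (g := g * (w : G)⁻¹) (by
      show d.z * (g * (w : G)⁻¹) = g * (w : G)⁻¹ * d.z
      calc d.z * (g * (w : G)⁻¹)
          = g * (w : G)⁻¹ * ((w : G) * (g⁻¹ * d.z * g) * (w : G)⁻¹) := by group
        _ = _ := by rw [hw'])
    have hg' : g = a * s * w := by rw [← e1]; group
    have e2 : (g : G ⧸ H) = a • ((s : G) : G ⧸ H) := by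
      rw [MulAction.Quotient.smul_coe, smul_eq_mul, QuotientGroup.eq, hg']
      rw [show (a * s * (w : G))⁻¹ * (a * s) = (w : G)⁻¹ by group]
      exact inv_mem w.2
    have hxj : ∀ j : ℤ, ((d.x ^ j : G) : G ⧸ H) = ((1 : G) : G ⧸ H) ∨
        ((d.x ^ j : G) : G ⧸ H) = ((d.x : G) : G ⧸ H) := fun j => by
      rcases Int.even_or_odd j with ⟨l, rfl⟩ | ⟨l, rfl⟩
      · left
        rw [← two_mul, zpow_mul, ← h.z_eq, QuotientGroup.eq, mul_one]
        exact inv_mem (zpow_mem hzH l)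
      · right
        rw [QuotientGroup.eq, ← zpow_neg]
        nth_rw 2 [← zpow_one d.x]
        rw [← zpow_add, show -(2 * l + 1) + 1 = 2 * (-l) by ring, zpow_mul, ← h.z_eq]
        exact zpow_mem hzH _
    have hs' : ((s : G) : G ⧸ H) = ((1 : G) : G ⧸ H) ∨ ((s : G) : G ⧸ H) = ((d.x : G) : G ⧸ H) := by
      rcases d.cover s hs with ⟨j, rfl⟩ | ⟨j, rfl⟩
      · exact hxj j
      · have e3 : ((d.x ^ j * d.y : G) : G ⧸ H) = ((d.x ^ (j - i) : G) : G ⧸ H) := by
          rw [show d.x ^ j * d.y = d.x ^ (j - i) * d.r i by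
            rw [d.zpow_mul_r, sub_add_cancel]; rfl, QuotientGroup.eq, mul_inv_rev, mul_assoc,
            inv_mul_cancel, mul_one]
          exact inv_mem hrH
        rw [e3]; exact hxj _
    rw [e2]
    rcases hs' with e3 | e3 <;> rw [e3]
    · exact Or.inl (hfix1 a (hKH ha))
    · exact Or.inr (hfixx a (hKH ha))
  -- a point moved by `A`
  have hker : (MulAction.toPermHom G (G ⧸ H)).ker = ⊥ := by
    rw [← Subgroup.normalCore_eq_ker]
    exact (IsSimpleGroup.eq_bot_or_eq_top_of_normal _ H.normalCore_normal).resolve_right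
      fun e' => hHtop (top_le_iff.1 (e' ▸ H.normalCore_le))
  obtain ⟨a, haA, p, hap⟩ : ∃ a ∈ A d i, ∃ p : G ⧸ H, a • p ≠ p := by
    by_contra hno
    push Not at hno
    refine hA ((eq_bot_iff_forall _).2 fun a ha => ?_)
    have : a ∈ (MulAction.toPermHom G (G ⧸ H)).ker := MonoidHom.mem_ker.2 (Equiv.ext (hno a ha))
    rw [hker] at this
    exact this
  have hAH : A d i ≤ H := fun a ha => hKH (h.mem_A.1 ha).1
  have hp1 : p ≠ ((1 : G) : G ⧸ H) := fun e' => hap (by rw [e']; exact hfix1 a (hAH haA))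
  have hpx : p ≠ ((d.x : G) : G ⧸ H) := fun e' => hap (by rw [e']; exact hfixx a (hAH haA))
  set Hp := MulAction.stabilizer H p with hHp
  have hHodd : Odd (Nat.card Hp) := by
    by_contra he
    obtain ⟨t, ht⟩ := exists_prime_orderOf_dvd_card' (G := Hp) 2
      (even_iff_two_dvd.1 (Nat.not_odd_iff_even.1 he))
    rw [← Subgroup.orderOf_coe] at ht
    obtain ⟨g, hg⟩ := hconjH _ ht
    have htp : ((t : H) : G) • p = p := MulAction.mem_stabilizer_iff.1 t.2
    have hzp : d.z • ((g : G) • p) = (g : G) • p := by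
      have e1 : (g : G) * ((t : H) : G) * (g : G)⁻¹ = d.z := congrArg Subtype.val hg
      rw [← mul_smul, ← e1, inv_mul_cancel_right, mul_smul, htp]
    rcases hfixz _ hzp with e1 | e1
    · exact hp1 (by rw [← inv_smul_smul (g : G) p, e1, hfix1 _ (inv_mem g.2)])
    · exact hpx (by rw [← inv_smul_smul (g : G) p, e1, hfixx _ (inv_mem g.2)])
  set O := MulAction.orbit H p with hO
  have hOcard : Nat.card O * Nat.card Hp = Nat.card H := by
    have := Nat.card_congr (MulAction.orbitProdStabilizerEquivGroup H p)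
    rwa [Nat.card_prod] at this
  have hOle : Nat.card O + 2 ≤ n := by
    have hsub : O ⊆ ({((1 : G) : G ⧸ H), ((d.x : G) : G ⧸ H)} : Set (G ⧸ H))ᶜ := by
      rintro _ ⟨g, rfl⟩ (e1 | e1)
      · refine hp1 ?_
        rw [← inv_smul_smul (g : G) p, show (g : G) • p = g • p from rfl, show g • p = _ from e1,
          hfix1 _ (inv_mem g.2)]
      · refine hpx ?_
        rw [← inv_smul_smul (g : G) p, show (g : G) • p = g • p from rfl, show g • p = _ from e1,
          hfixx _ (inv_mem g.2)]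
    have hne : ((1 : G) : G ⧸ H) ≠ ((d.x : G) : G ⧸ H) := by
      rw [Ne, QuotientGroup.eq, inv_one, one_mul]
      intro hxm
      obtain ⟨⟨a', ha'⟩, ha1⟩ := (ne_bot_iff_exists_ne_one (H := A d i)).1 hA
      have e1 : Commute d.x a' := ((mem_centralizer_iff.1 hxm) a' ha').symm
      exact h.not_commute_x (h.mem_A.1 ha').1 (fun e' => ha1 (Subtype.ext e')) odd_one
        (by rwa [zpow_one])
    have h1 := Set.ncard_le_ncard hsub
    rw [Set.ncard_compl, Set.ncard_pair hne] at h1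
    rw [Nat.card_coe_set_eq, hn, Subgroup.index]
    have hn1 : 1 ≤ n := Nat.one_le_iff_ne_zero.2 Subgroup.index_ne_zero_of_finite
    have hn2 : n = Nat.card (G ⧸ H) := rfl
    omega
  set A' := (A d i).subgroupOf H with hA'
  set M := A' ⊔ Hp with hM
  have hA'c : ∀ u ∈ A', ∀ v : H, Commute u v := fun u hu v =>
    Subtype.ext ((mem_centralizer_iff.1 v.2) _ hu)
  have hMn : A' ≤ normalizer (Hp : Set H) := fun u hu =>
    centralizer_le_normalizer _ (mem_centralizer_iff.2 fun v _ => (hA'c u hu v).eq.symm)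
  have hMcard := CfsgLib.Coprime.card_sup_mul_card_inf hMn
  have hA'odd : Odd (Nat.card A') := by
    rw [Nat.card_congr (subgroupOfEquivOfLe hAH).toEquiv]; exact h.odd_A i
  have hModd : Odd (Nat.card M) := by
    have h2 : Odd (Nat.card M * Nat.card (A' ⊓ Hp : Subgroup H)) := hMcard ▸ hA'odd.mul hHodd
    exact (Nat.odd_mul.1 h2).1
  obtain ⟨s, hs⟩ : Nat.card Hp ∣ Nat.card M := Subgroup.card_dvd_of_le le_sup_right
  have hs2 : 2 < s := by
    have hso : Odd s := (Nat.odd_mul.1 (hs ▸ hModd)).2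
    have hs1 : s ≠ 1 := by
      intro e1
      rw [e1, mul_one] at hs
      have heq : Hp = M := eq_of_le_of_card_ge le_sup_right hs.le
      have hm : (⟨a, hAH haA⟩ : H) ∈ M := mem_sup_left (show a ∈ A d i from haA)
      rw [← heq] at hm
      exact hap hm
    obtain ⟨l, hl⟩ := hso
    omega
  have hsO : s * M.index = Nat.card O := by
    have h1 := M.card_mul_index
    rw [hs, ← hOcard, mul_comm (Nat.card O), mul_assoc] at h1
    exact Nat.eq_of_mul_eq_mul_left Nat.card_pos h1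
  have hidx : M.index = 4 := by
    obtain ⟨q, hq⟩ : 4 ∣ M.index := by
      have hd : 4 ∣ Nat.card M * M.index := M.card_mul_index.symm ▸ ⟨k, hk⟩
      exact (((Nat.coprime_two_left.2 hModd).pow_left 2).dvd_of_dvd_mul_left
        (show 2 ^ 2 ∣ Nat.card M * M.index from hd))
    have hq0 : q ≠ 0 := fun e' => Subgroup.index_ne_zero_of_finite (H := M) (by rw [hq, e', mul_zero])
    rcases Nat.lt_or_ge q 2 with hq2 | hq2
    · omega
    · exfalso
      have : 3 * 8 ≤ s * M.index := Nat.mul_le_mul hs2 (by omega)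
      omega
  -- the action on four cosets
  obtain ⟨eq4⟩ : Nonempty ((H ⧸ M) ≃ Fin 4) := ⟨(Finite.equivFinOfCardEq hidx)⟩
  let φ : H →* Equiv.Perm (Fin 4) :=
    eq4.permCongrHom.toMonoidHom.comp (MulAction.toPermHom H (H ⧸ M))
  have hφ : ∀ (g : H) (q : Fin 4), φ g q = eq4 (g • eq4.symm q) := fun g q => rfl
  have hfpf : ∀ v : H, orderOf v = 2 → (∀ q, φ v q ≠ q) ∧ (∀ q, φ v (φ v q) = q) := by
    intro v hv
    refine ⟨fun q e1 => ?_, fun q => ?_⟩
    · rw [hφ, ← Equiv.eq_symm_apply] at e1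
      obtain ⟨g, hg⟩ := QuotientGroup.mk_surjective (eq4.symm q)
      rw [← hg, MulAction.Quotient.smul_coe, QuotientGroup.eq, smul_eq_mul] at e1
      have hm : g⁻¹ * v * g ∈ M := by
        have := inv_mem e1
        rwa [mul_inv_rev, inv_inv, ← mul_assoc] at this
      have ho : orderOf (g⁻¹ * v * g) = 2 := by simpa using conj_invol g⁻¹ hv
      have hd := Subgroup.orderOf_dvd_natCard M hm
      rw [ho] at hd
      exact Nat.two_dvd_ne_zero.2 (Nat.odd_iff.1 hModd) hd
    · rw [← Equiv.Perm.mul_apply, ← map_mul, invol_mul_self hv, map_one, Equiv.Perm.one_apply]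
  set z' : H := ⟨d.z, hzH⟩
  set r' : H := ⟨d.r i, hrH⟩
  have oz : orderOf z' = 2 := by rw [Subgroup.orderOf_mk]; exact d.orderOf_z
  have orr : orderOf r' = 2 := by rw [Subgroup.orderOf_mk]; exact d.orderOf_r i
  have ozr : orderOf (z' * r') = 2 := by
    rw [← Subgroup.orderOf_coe]; exact orderOf_zr d i
  have hzr : φ z' * φ r' = φ r' * φ z' := by
    rw [← map_mul, ← map_mul]; exact congrArg φ (Subtype.ext (d.commute_z (d.r_mem i)).eq)
  set V : Subgroup (Equiv.Perm (Fin 4)) := closure {φ z', φ r'} with hV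
  have hVmem : ∀ v : H, orderOf v = 2 → φ v ∈ V := by
    intro v hv
    obtain ⟨h1, h1'⟩ := hfpf _ oz
    obtain ⟨h2, h2'⟩ := hfpf _ orr
    obtain ⟨h3, h3'⟩ := hfpf _ ozr
    obtain ⟨h4, h4'⟩ := hfpf _ hv
    rw [map_mul] at h3 h3'
    rcases fpf_involutions _ _ _ h1 h1' h2 h2' h3 h3' h4 h4' with e1 | e1 | e1 <;> rw [e1]
    · exact subset_closure (by simp)
    · exact subset_closure (by simp)
    · exact mul_mem (subset_closure (by simp)) (subset_closure (by simp))
  have hLV : Lc d i ≤ (V.comap φ).map H.subtype := by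
    refine (closure_le _).2 ?_
    rintro _ ⟨g, hg, t, ht, rfl⟩
    refine ⟨⟨g * t * g⁻¹, mul_mem (mul_mem hg (h.TG_le_cent i ht)) (inv_mem hg)⟩, ?_, rfl⟩
    by_cases ht1 : t = 1
    · subst ht1
      rw [show (⟨g * 1 * g⁻¹, _⟩ : H) = 1 from Subtype.ext (show g * 1 * g⁻¹ = 1 by group)]
      exact one_mem _
    · refine hVmem _ ?_
      rw [Subgroup.orderOf_mk]
      exact conj_invol g (orderOf_eq_two_of_mem (d.isKleinFour_TG i) ht ht1)
  obtain ⟨c', hc'V, hc'⟩ := hLV hcL
  have hcent : φ c' * φ z' = φ z' * φ c' := by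
    have hle : V ≤ centralizer ({φ z'} : Set (Equiv.Perm (Fin 4))) := by
      refine (closure_le _).2 ?_
      rintro _ (rfl | rfl) <;> refine mem_centralizer_singleton_iff.2 ?_
      · rfl
      · exact hzr.symm
    exact mem_centralizer_singleton_iff.1 (hle hc'V)
  have e1 : φ r' = φ z' := by
    have hconj : c' * z' * c'⁻¹ = r' := Subtype.ext (by
      show (c' : G) * d.z * (c' : G)⁻¹ = d.r i
      rw [show (c' : G) = c from hc']; exact hc1)
    rw [← hconj, map_mul, map_mul, hcent, map_inv, mul_inv_cancel_right]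
  obtain ⟨h3, -⟩ := hfpf _ ozr
  refine h3 0 ?_
  rw [map_mul, e1, ← map_mul, invol_mul_self oz, map_one, Equiv.Perm.one_apply]

set_option maxHeartbeats 400000 in
/-- Both `Wg i` of odd order is impossible when the parts are nontrivial and equal. -/
theorem false_of_good [IsSimpleGroup G] (i : ℤ) (hA : A d i ≠ ⊥)
    (hW : Odd (Nat.card (Wg d i))) (hW' : Odd (Nat.card (Wg d (i + 1))))
    (hab : Nat.card (A d i) = Nat.card (A d (i + 1))) : False := by
  classical
  set W := Wg d i with hWdef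
  have hc := (h.card_other hW).1
  have hKr : Kt (d.r (i + 1)) ≤ W := by
    have heq : W ⊓ centralizer ({d.r (i + 1)} : Set G) = Kt (d.r (i + 1)) := by
      refine eq_of_le_of_card_ge (h.inf_cent_eq_Kt hW (d.orderOf_r (i + 1))) ?_
      rw [hc, h.card_Kt (d.orderOf_r (i + 1)), h.card_K i, hab, sq]
    exact heq ▸ inf_le_left
  have hxr : d.x * d.r (i + 1) * d.x⁻¹ = d.z * d.r (i + 1) := by
    have := d.conj_r 1 (i + 1)
    rwa [zpow_one, mul_one, h.r_two] at this
  have hKzr : Kt (d.z * d.r (i + 1)) ≤ W := by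
    rw [← hxr, ← map_Kt]
    rintro _ ⟨b, hb, rfl⟩
    exact h.conj_mem_Wg i d.x_mem (hKr hb)
  have hW1 : Wg d (i + 1) = W := by
    refine eq_of_le_of_card_ge
      (sup_le (sup_le (le_sup_left.trans le_sup_left) hKr) hKzr) ?_
    rw [h.card_Wg hW, h.card_Wg hW', show i + 1 + 1 = i + 2 by ring, h.A_add_two, hab]
  set M := normalizer (W : Set G) with hMdef
  have hPM : (P : Subgroup G) ≤ M := (h.P_le_normalizer_TG i).trans (h.normalizer_TG_le i)
  have hN : ∀ j, normalizer (d.TG j : Set G) ≤ M := by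
    have h0 : normalizer (d.TG i : Set G) ≤ M := h.normalizer_TG_le i
    have h1 : normalizer (d.TG (i + 1) : Set G) ≤ M := by
      have := h.normalizer_TG_le (i + 1)
      rwa [hW1] at this
    have hev : ∀ k : ℤ, d.TG (i + 2 * k) = d.TG i ∧ d.TG (i + 1 + 2 * k) = d.TG (i + 1) := by
      intro k
      induction k using Int.induction_on with
      | zero => simp
      | succ k ih =>
        exact ⟨by rw [show i + 2 * ((k : ℤ) + 1) = i + 2 * k + 2 by ring, TG_add_two h]; exact ih.1,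
          by rw [show i + 1 + 2 * ((k : ℤ) + 1) = i + 1 + 2 * k + 2 by ring, TG_add_two h]; exact ih.2⟩
      | pred k ih =>
        exact ⟨by rw [← ih.1, ← TG_add_two h (i + 2 * (-(k : ℤ) - 1))]; congr 1; ring,
          by rw [← ih.2, ← TG_add_two h (i + 1 + 2 * (-(k : ℤ) - 1))]; congr 1; ring⟩
    intro j
    rcases Int.even_or_odd (j - i) with ⟨k, hk⟩ | ⟨k, hk⟩
    · rw [show j = i + 2 * k by linarith, (hev k).1]; exact h0
    · rw [show j = i + 1 + 2 * k by linarith, (hev k).2]; exact h1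
  have hMtop : M ≠ ⊤ := by
    intro e
    haveI : W.Normal := normalizer_eq_top_iff.1 e
    rcases IsSimpleGroup.eq_bot_or_eq_top_of_normal W inferInstance with e' | e'
    · exact hA (le_bot_iff.1 (e' ▸ inf_le_left.trans (le_sup_left.trans le_sup_left) :
        A d i ≤ ⊥))
    · rw [e', Subgroup.card_top] at hW
      exact Nat.not_even_iff_odd.2 hW (even_iff_two_dvd.2 ((by norm_num : 2 ∣ 8).trans h.eight_dvd))
  set d' := subDP d hPM with hd'
  have hd : Hyp d' := by
    refine ⟨h.n_eq, ?_, fun j => (not_F2_subDP_iff d hPM j).2 ?_⟩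
    · ext g
      constructor
      · intro hg
        have hg' : (g : G) ∈ zpowers d.x := by
          rw [← h.cx]
          exact mem_centralizer_singleton_iff.2
            (congrArg Subtype.val (mem_centralizer_singleton_iff.1 hg))
        obtain ⟨l, hl⟩ := hg'
        exact ⟨l, Subtype.ext (by simpa [hd', subDP] using hl)⟩
      · rintro ⟨l, rfl⟩
        exact mem_centralizer_singleton_iff.2 ((Commute.refl d'.x).zpow_left l).eq
    · obtain ⟨c, hc1, hc2, hc3, -⟩ := d.exists_cycle (h.fus j)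
      refine ⟨c, hN j hc1, hc1, hc2, d.z, d.z_mem_TG j, fun e => d.z_ne_r j ?_⟩
      rw [← hc3, e.eq, mul_inv_cancel_right]
  have hz' : (d'.z : G) = d.z := coe_subDP_z d hPM
  have hAM : ∀ j, Nat.card (A d' j) = Nat.card (A d j) := fun j => by
    have hWM : W ≤ M := le_normalizer
    refine Nat.card_congr
      { toFun := fun u => ⟨u.1.1, ?_⟩
        invFun := fun a => ⟨⟨a.1, hWM ((le_sup_left.trans le_sup_left : Kt d.z ≤ W)
          (h.mem_A.1 a.2).1)⟩, ?_⟩
        left_inv := fun u => rfl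
        right_inv := fun u => rfl }
    · obtain ⟨hK, hr⟩ := hd.mem_A.1 u.2
      obtain ⟨hzu, ho⟩ := hd.mem_Kt_z.1 hK
      have hzu' : Commute d.z ((u : M) : G) := hz' ▸ hzu.map M.subtype
      refine h.mem_A.2 ⟨h.mem_Kt_z.2 ⟨hzu', by rwa [Subgroup.orderOf_coe]⟩, ?_⟩
      exact coe_subDP_r d hPM j ▸ hr.map M.subtype
    · obtain ⟨hK, hr⟩ := h.mem_A.1 a.2
      obtain ⟨hza, ho⟩ := h.mem_Kt_z.1 hK
      refine hd.mem_A.2 ⟨hd.mem_Kt_z.2 ⟨Subtype.ext ?_, ?_⟩, Subtype.ext ?_⟩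
      · show (d'.z : G) * (a : G) = (a : G) * (d'.z : G)
        rw [hz']; exact hza.eq
      · rwa [← Subgroup.orderOf_coe]
      · show ((d'.r j : M) : G) * (a : G) = (a : G) * ((d'.r j : M) : G)
        rw [coe_subDP_r d hPM j]; exact hr.eq
  have hlo := (hd.order_bounds i).1
  rw [hAM, hAM] at hlo
  have hhi := (h.order_bounds i).2
  rw [← M.card_mul_index] at hhi
  refine h.false_of_index_le_two hMtop ?_
  set X := Nat.card (A d i) * Nat.card (A d (i + 1)) *
    (Nat.card (A d i) + Nat.card (A d (i + 1))) ^ 2 with hX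
  have hXpos : 0 < X := by
    have ha : 0 < Nat.card (A d i) := Nat.card_pos
    have hb : 0 < Nat.card (A d (i + 1)) := Nat.card_pos
    positivity
  have h3 : X * (42 * M.index) ≤ X * 90 := by
    calc X * (42 * M.index) = 42 * (Nat.card (A d i) * Nat.card (A d (i + 1))) *
          (Nat.card (A d i) + Nat.card (A d (i + 1))) ^ 2 * M.index := by rw [hX]; ring
      _ ≤ Nat.card M * M.index := Nat.mul_le_mul_right _ hlo
      _ ≤ _ := hhi
      _ = X * 90 := by rw [hX]; ring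
  have := le_of_mul_le_mul_left h3 hXpos
  omega

/-- One of the two parts is trivial. -/
theorem exists_A_eq_bot [IsSimpleGroup G] : ∃ i : ℤ, A d i = ⊥ := by
  by_contra hno
  push Not at hno
  have e : A d (0 + 1 + 1) = A d 0 := by
    rw [show (0 : ℤ) + 1 + 1 = 0 + 2 by norm_num, h.A_add_two]
  rcases h.good_or_bad 0 (hno 0) with g0 | ⟨b0, c0, hc0, h01, h02⟩ <;>
    rcases h.good_or_bad (0 + 1) (hno _) with g1 | ⟨b1, c1, hc1, h11, h12⟩
  · have d1 := (h.card_other g0).2
    have d2 := (h.card_other g1).2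
    rw [e] at d2
    exact h.false_of_good 0 (hno 0) g0 g1 (Nat.dvd_antisymm d2 d1)
  · refine h.false_of_bad (0 + 1) (hno _) b1 hc1 h11 h12 ?_
    rw [e]
    exact Nat.le_of_dvd Nat.card_pos (h.card_other g0).2
  · refine h.false_of_bad 0 (hno _) b0 hc0 h01 h02 ?_
    have d2 := (h.card_other g1).2
    rw [e] at d2
    exact Nat.le_of_dvd Nat.card_pos d2
  · rcases le_total (Nat.card (A d 0)) (Nat.card (A d (0 + 1))) with hle | hle
    · exact h.false_of_bad 0 (hno _) b0 hc0 h01 h02 hle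
    · refine h.false_of_bad (0 + 1) (hno _) b1 hc1 h11 h12 ?_
      rw [e]
      exact hle

end Hyp

end CfsgLib.CentFour
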