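import Cfsg.Agent.Lib.CentFour.Eight
import Cfsg.Agent.Lib.DGroup.Proper

/-!
# The centralizer of `A i`

It has the Sylow subgroup `TG i`.  Either the odd centralizers of the involutions of `TG i`
generate a group of odd order, or the normal closure of `TG i` has a large order and fuses
its involutions.
-/

set_option autoImplicit false
set_option linter.unusedSectionVars false
set_option linter.style.haveILetI false

namespace CfsgLib.CentFour

open Subgroup CfsgLib.Involutions CfsgLib.DGroup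

universe u

/-- A four-group is a Sylow subgroup when eight does not divide the order. -/
theorem exists_dp_four {L : Type u} [Group L] [Finite L] {a b : L} (ha : orderOf a = 2)
    (hb : orderOf b = 2) (hab : Commute a b) (hne : a ≠ b) (h8 : ¬ 8 ∣ Nat.card L) :
    ∃ (S : Sylow 2 L) (e : DP (S : Subgroup L)),
      e.n = 1 ∧ e.z = a ∧ e.r 0 = b ∧ e.y = b ∧ e.x = a ∧ (S : Subgroup L) = closure {a, b} := by
  haveI : Fact (Nat.Prime 2) := ⟨Nat.prime_two⟩
  set T : Subgroup L := closure {a, b} with hT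
  haveI hK : IsKleinFour T := isKleinFour_closure_pair ha hb hab hne
  have h4 : Nat.card T = 4 := hK.card_four
  have hTp : IsPGroup 2 T := IsPGroup.of_card (n := 2) (by rw [h4]; norm_num)
  have hidx : ¬ 2 ∣ T.index := by
    intro h
    refine h8 ?_
    rw [← T.card_mul_index, h4, show (8 : ℕ) = 4 * 2 by norm_num]
    exact mul_dvd_mul_left 4 h
  let e : DP ((hTp.toSylow hidx : Sylow 2 L) : Subgroup L) :=
    { n := 1
      x := a
      y := b
      one_le := le_rfl
      x_mem := subset_closure (by simp)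
      y_mem := subset_closure (by simp)
      orderOf_x := by rw [ha, pow_one]
      orderOf_y := hb
      conj_y := by rw [← hab.eq, mul_inv_cancel_right, invol_inv ha]
      y_not := fun hm => by
        rcases (mem_zpowers_invol ha).1 hm with h | h
        · exact invol_ne_one hb h
        · exact hne h.symm
      cover := fun g hg => by
        rcases (mem_closure_commute_pair ha hb hab).1 hg with rfl | rfl | rfl | rfl
        · exact Or.inl ⟨0, (zpow_zero _).symm⟩
        · exact Or.inl ⟨1, (zpow_one _).symm⟩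
        · exact Or.inr ⟨0, by rw [zpow_zero, one_mul]⟩
        · exact Or.inr ⟨1, by rw [zpow_one]⟩ }
  refine ⟨hTp.toSylow hidx, e, rfl, ?_, ?_, rfl, rfl, rfl⟩
  · show a ^ ((2 : ℤ) ^ (1 - 1)) = a
    simp
  · show a ^ (0 : ℤ) * b = b
    simp

variable {G : Type u} [Group G] [Finite G] {P : Sylow 2 G}

/-- The normal closure of `TG i` in the centralizer of `A i`. -/
def Lc (d : DP (P : Subgroup G)) (i : ℤ) : Subgroup G :=
  closure {v | ∃ g ∈ centralizer (A d i : Set G), ∃ t ∈ d.TG i, v = g * t * g⁻¹}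

namespace Hyp

variable {d : DP (P : Subgroup G)} (h : Hyp d) (i : ℤ)
include h

theorem TG_le_cent : d.TG i ≤ centralizer (A d i : Set G) := by
  rw [DP.TG, closure_le]
  rintro v hv
  rw [SetLike.mem_coe, mem_centralizer_iff]
  intro a ha
  obtain ⟨hK, hr⟩ := h.mem_A.1 ha
  rcases hv with rfl | rfl
  · exact (h.mem_Kt_z.1 hK).1.eq.symm
  · exact hr.eq.symm

theorem Kt_z_le_cent : Kt d.z ≤ centralizer (A d i : Set G) := fun k hk =>
  mem_centralizer_iff.2 fun a ha => (h.commute_of_Kt_z (h.mem_A.1 ha).1 hk).eq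

theorem Lc_le : Lc d i ≤ centralizer (A d i : Set G) := by
  refine (closure_le _).2 ?_
  rintro _ ⟨g, hg, t, ht, rfl⟩
  exact mul_mem (mul_mem hg (h.TG_le_cent i ht)) (inv_mem hg)

theorem TG_le_Lc : d.TG i ≤ Lc d i := fun t ht =>
  subset_closure ⟨1, one_mem _, t, ht, by group⟩

theorem conj_mem_Lc {g : G} (hg : g ∈ centralizer (A d i : Set G)) {v : G} (hv : v ∈ Lc d i) :
    g * v * g⁻¹ ∈ Lc d i := by
  have hle : (Lc d i).map (MulAut.conj g).toMonoidHom ≤ Lc d i := by
    rw [Lc, MonoidHom.map_closure]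
    refine (closure_le _).2 ?_
    rintro _ ⟨_, ⟨g', hg', t, ht, rfl⟩, rfl⟩
    refine subset_closure ⟨g * g', mul_mem hg hg', t, ht, ?_⟩
    show g * (g' * t * g'⁻¹) * g⁻¹ = _
    group
  exact hle (mem_map_of_mem (MulAut.conj g).toMonoidHom hv)

theorem not_commute_x {a : G} (ha : a ∈ Kt d.z) (ha1 : a ≠ 1) {j : ℤ} (hj : Odd j) :
    ¬ Commute (d.x ^ j) a := by
  intro hc
  obtain ⟨l, rfl⟩ := hj
  have hz : Commute (d.x ^ (2 * l)) a := by
    rw [zpow_mul, ← h.z_eq]; exact (h.mem_Kt_z.1 ha).1.zpow_left l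
  have hx : Commute d.x a := by
    have e := hz.inv_left.mul_left hc
    rwa [← zpow_neg, ← zpow_add, show -(2 * l) + (2 * l + 1) = 1 by ring, zpow_one] at e
  have : a ∈ centralizer ({d.x} : Set G) := mem_centralizer_singleton_iff.2 hx.eq.symm
  rw [h.cx] at this
  exact ha1 (h.eq_one_of_mem_P (h.mem_Kt_z.1 ha).2 (zpowers_le.2 d.x_mem this))

theorem mem_TG_of_cent (hA : A d i ≠ ⊥) {s : G} (hs : s ∈ (P : Subgroup G))
    (hc : s ∈ centralizer (A d i : Set G)) : s ∈ d.TG i := by
  obtain ⟨⟨a, ha⟩, ha1⟩ := (ne_bot_iff_exists_ne_one (H := A d i)).1 hA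
  have ha1' : a ≠ 1 := fun e => ha1 (Subtype.ext e)
  have key : ∀ j : ℤ, Commute (d.x ^ j) a → d.x ^ j ∈ d.TG i := fun j hj => by
    rcases Int.even_or_odd j with ⟨l, rfl⟩ | ho
    · rw [← two_mul, zpow_mul, ← h.z_eq]; exact zpow_mem (d.z_mem_TG i) l
    · exact absurd hj (h.not_commute_x (h.mem_A.1 ha).1 ha1' ho)
  have hsa : Commute s a := ((mem_centralizer_iff.1 hc) a ha).symm
  rcases d.cover s hs with ⟨j, rfl⟩ | ⟨j, rfl⟩
  · exact key j hsa
  · have e : d.x ^ j * d.y = d.x ^ (j - i) * d.r i := by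
      rw [d.zpow_mul_r, sub_add_cancel]; rfl
    rw [e] at hsa ⊢
    refine mul_mem (key _ ?_) (d.r_mem_TG i)
    have e2 := hsa.mul_left (h.mem_A.1 ha).2
    rwa [mul_assoc, invol_mul_self (d.orderOf_r i), mul_one] at e2

/-- Eight does not divide the order of `C(A i)`. -/
theorem not_eight_dvd (hA : A d i ≠ ⊥) : ¬ 8 ∣ Nat.card (centralizer (A d i : Set G)) := by
  haveI : Fact (Nat.Prime 2) := ⟨Nat.prime_two⟩
  intro h8
  obtain ⟨Q, hQ⟩ := Sylow.exists_subgroup_card_pow_prime 2
    (show 2 ^ 3 ∣ Nat.card (centralizer (A d i : Set G)) by simpa using h8)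
  set Q' := Q.map (centralizer (A d i : Set G)).subtype
  have hQc : Nat.card Q' = 8 := by
    rw [card_map_of_injective (subtype_injective _), hQ]; norm_num
  obtain ⟨S, hS⟩ := (IsPGroup.of_card (p := 2) (n := 3) (by rw [hQc]; norm_num) :
    IsPGroup 2 Q').exists_le_sylow
  obtain ⟨g, hg⟩ := MulAction.exists_smul_eq G P S
  have hSc : Nat.card (S : Subgroup G) = 8 := by
    rw [S.card_eq_multiplicity, ← P.card_eq_multiplicity, h.card_P]
  have hQS : Q' = (S : Subgroup G) := eq_of_le_of_card_ge hS (by rw [hSc, hQc])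
  have hxS : g * d.x * g⁻¹ ∈ (S : Subgroup G) := by
    rw [← hg]
    exact mem_map_of_mem (MulAut.conj g).toMonoidHom d.x_mem
  rw [← hQS] at hxS
  have hxc : g * d.x * g⁻¹ ∈ centralizer (A d i : Set G) := map_subtype_le Q hxS
  obtain ⟨⟨a, ha⟩, ha1⟩ := (ne_bot_iff_exists_ne_one (H := A d i)).1 hA
  have hc : a * (g * d.x * g⁻¹) = g * d.x * g⁻¹ * a := (mem_centralizer_iff.1 hxc) a ha
  have hmem : g⁻¹ * a * g ∈ centralizer ({d.x} : Set G) := by
    refine mem_centralizer_singleton_iff.2 ?_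
    calc g⁻¹ * a * g * d.x = g⁻¹ * (a * (g * d.x * g⁻¹)) * g := by group
      _ = _ := by rw [hc]; group
  rw [h.cx] at hmem
  have ho : Odd (orderOf (g⁻¹ * a * g)) := by
    rw [show g⁻¹ * a * g = (MulAut.conj g⁻¹) a by simp, MulEquiv.orderOf_eq]
    exact (h.mem_Kt_z.1 (h.mem_A.1 ha).1).2
  have e1 := h.eq_one_of_mem_P ho (zpowers_le.2 d.x_mem hmem)
  refine ha1 (Subtype.ext ?_)
  calc a = g * (g⁻¹ * a * g) * g⁻¹ := by group
    _ = 1 := by rw [e1]; group

theorem A_succ_le_Lc : A d (i + 1) ≤ Lc d i := by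
  intro b hb
  have hbK := (h.mem_A.1 hb).1
  have hinv := (h.mem_A_succ_iff i hbK).1 hb
  have h2 : b * b ∈ Lc d i := by
    have e : b * b = b * d.r i * b⁻¹ * d.r i := by
      calc b * b = b * (d.r i * b⁻¹ * (d.r i)⁻¹) := by
            rw [show d.r i * b⁻¹ * (d.r i)⁻¹ = (d.r i * b * (d.r i)⁻¹)⁻¹ by group, hinv, inv_inv]
        _ = b * d.r i * b⁻¹ * (d.r i)⁻¹ := by group
        _ = _ := by rw [d.r_inv]
    rw [e]
    exact mul_mem (subset_closure ⟨b, h.Kt_z_le_cent i hbK, d.r i, d.r_mem_TG i, rfl⟩)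
      (h.TG_le_Lc i (d.r_mem_TG i))
  obtain ⟨k, hk⟩ := (h.mem_Kt_z.1 hbK).2
  have e : b = ((b * b) ^ k)⁻¹ := by
    refine eq_inv_of_mul_eq_one_left ?_
    rw [← sq, ← pow_mul, ← pow_succ', ← hk, pow_orderOf_eq_one]
  rw [e]
  exact inv_mem (pow_mem h2 k)

theorem card_Kt_inf_Lc :
    Nat.card (Kt d.z ⊓ Lc d i : Subgroup G) =
      Nat.card (A d i ⊓ Lc d i : Subgroup G) * Nat.card (A d (i + 1)) := by
  let f : A d i × A d (i + 1) → Kt d.z := fun p =>
    ⟨(p.1 : G) * p.2, mul_mem (h.mem_A.1 p.1.2).1 (h.mem_A.1 p.2.2).1⟩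
  have hinj : Function.Injective f := by
    rintro ⟨⟨a, ha⟩, ⟨b, hb⟩⟩ ⟨⟨a', ha'⟩, ⟨b', hb'⟩⟩ e
    have e1 : a * b = a' * b' := congrArg Subtype.val e
    set c := a'⁻¹ * a with hc
    have hcA : c ∈ A d i := mul_mem (inv_mem ha') ha
    have hcB : c ∈ A d (i + 1) := by
      rw [show c = b' * b⁻¹ by
        calc a'⁻¹ * a = a'⁻¹ * (a * b) * b⁻¹ := by group
          _ = b' * b⁻¹ := by rw [e1]; group]
      exact mul_mem hb' (inv_mem hb)
    have h2 : c = c⁻¹ := by
      have := (h.mem_A_succ_iff i (h.mem_A.1 hcA).1).1 hcB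
      rwa [(h.mem_A.1 hcA).2.eq, mul_inv_cancel_right] at this
    have hc1 : c = 1 := by
      obtain ⟨k, hk⟩ := (h.mem_Kt_z.1 (h.mem_A.1 hcA).1).2
      have hp := pow_orderOf_eq_one c
      rwa [hk, pow_succ, pow_mul, sq, mul_eq_one_iff_eq_inv.2 h2, one_pow, one_mul] at hp
    obtain rfl : a = a' := (inv_mul_eq_one.1 hc1).symm
    obtain rfl : b = b' := mul_left_cancel e1
    rfl
  have hbij : Function.Bijective f := (Nat.bijective_iff_injective_and_card _).2
    ⟨hinj, by rw [Nat.card_prod, h.card_K i]⟩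
  let g : (A d i ⊓ Lc d i : Subgroup G) × A d (i + 1) → (Kt d.z ⊓ Lc d i : Subgroup G) := fun p =>
    ⟨(p.1 : G) * p.2, mul_mem (h.mem_A.1 p.1.2.1).1 (h.mem_A.1 p.2.2).1,
      mul_mem p.1.2.2 (h.A_succ_le_Lc i p.2.2)⟩
  have hg : Function.Bijective g := by
    refine ⟨?_, ?_⟩
    · rintro ⟨⟨a, ha⟩, b⟩ ⟨⟨a', ha'⟩, b'⟩ e
      have := hinj (a₁ := (⟨a, ha.1⟩, b)) (a₂ := (⟨a', ha'.1⟩, b'))
        (Subtype.ext (congrArg Subtype.val e :))
      obtain ⟨e1, e2⟩ := Prod.mk.inj this
      exact Prod.ext (Subtype.ext (congrArg Subtype.val e1 :)) e2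
    · rintro ⟨k, hk, hkL⟩
      obtain ⟨⟨a, b⟩, e⟩ := hbij.2 ⟨k, hk⟩
      have e' : (a : G) * b = k := congrArg Subtype.val e
      have haL : (a : G) ∈ Lc d i := by
        rw [show (a : G) = k * (b : G)⁻¹ by rw [← e', mul_inv_cancel_right]]
        exact mul_mem hkL (inv_mem (h.A_succ_le_Lc i b.2))
      exact ⟨(⟨a, a.2, haL⟩, b), Subtype.ext e'⟩
  rw [← Nat.card_eq_of_bijective g hg, Nat.card_prod]

set_option maxHeartbeats 800000 in
/-- Either `Wg i` has odd order, or `Lc i` is large and fuses the involutions of `TG i`. -/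
theorem good_or_bad (hA : A d i ≠ ⊥) :
    Odd (Nat.card (Wg d i)) ∨
      (22 * Nat.card (A d i) * Nat.card (A d (i + 1)) ^ 3 ≤
          Nat.card (centralizer (A d i : Set G)) ∧
        ∃ c ∈ Lc d i, c * d.z * c⁻¹ = d.r i ∧ c * d.r i * c⁻¹ = d.z * d.r i) := by
  classical
  haveI : Fact (Nat.Prime 2) := ⟨Nat.prime_two⟩
  set H := centralizer (A d i : Set G) with hH
  set L := Lc d i with hL
  have hLH : L ≤ H := h.Lc_le i
  have hzL : d.z ∈ L := h.TG_le_Lc i (d.z_mem_TG i)
  have hrL : d.r i ∈ L := h.TG_le_Lc i (d.r_mem_TG i)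
  obtain ⟨S, e, hn, hez, her, hey, hex, hS⟩ := exists_dp_four (a := (⟨d.z, hzL⟩ : L))
    (b := ⟨d.r i, hrL⟩) (by rw [Subgroup.orderOf_mk]; exact d.orderOf_z)
    (by rw [Subgroup.orderOf_mk]; exact d.orderOf_r i)
    (Subtype.ext (d.commute_z (d.r_mem i)).eq) (fun e' => d.z_ne_r i (congrArg Subtype.val e'))
    (fun h8 => h.not_eight_dvd i hA (h8.trans (Subgroup.card_dvd_of_le hLH)))
  have hsim : ∀ j k : ℤ, e.Sim j k := fun j k => Or.inr hn
  by_cases hF : e.F2 0
  · left
    -- a normal 2-complement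
    obtain ⟨O, -, hON, hOodd, hOS⟩ := exists_core e (M := ⊤) le_top fun j ⟨y, _, hy, ho, a, ha, hc⟩ =>
      hc (DP.F2.sim e hF (hsim 0 j) y hy ho a ha)
    haveI : O.Normal := normalizer_eq_top_iff.1 (top_le_iff.1 hON)
    have hmemO : ∀ g : L, Odd (orderOf g) → g ∈ O := by
      intro g hg
      have hgt : g ∈ O ⊔ (S : Subgroup L) := hOS ▸ mem_top g
      obtain ⟨o, ho, s, hs, rfl⟩ := mem_sup_of_normal_left.1 hgt
      have e1 : (QuotientGroup.mk' O) (o * s) = QuotientGroup.mk' O s := by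
        rw [map_mul, show QuotientGroup.mk' O o = 1 from (QuotientGroup.eq_one_iff o).2 ho, one_mul]
      have hs2 : s * s = 1 := by
        rw [hS] at hs
        rcases (mem_closure_commute_pair (by rw [Subgroup.orderOf_mk]; exact d.orderOf_z)
          (by rw [Subgroup.orderOf_mk]; exact d.orderOf_r i)
          (Subtype.ext (d.commute_z (d.r_mem i)).eq)).1 hs with rfl | rfl | rfl | rfl
        · exact one_mul 1
        · exact Subtype.ext (invol_mul_self d.orderOf_z)
        · exact Subtype.ext (invol_mul_self (d.orderOf_r i))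
        · exact Subtype.ext (invol_mul_self (orderOf_zr d i))
      obtain ⟨k, hk⟩ := hg
      have hp := congrArg (QuotientGroup.mk' O) (pow_orderOf_eq_one (o * s))
      rw [map_pow, e1, map_one, hk, pow_succ, pow_mul, sq, ← map_mul, hs2, map_one, one_pow,
        one_mul, ← e1] at hp
      exact (QuotientGroup.eq_one_iff _).1 hp
    set O' := O.map L.subtype with hO'
    have hO'odd : Odd (Nat.card O') := by rwa [card_map_of_injective (subtype_injective L)]
    have hsup : Odd (Nat.card (A d i ⊔ O' : Subgroup G)) := by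
      have hAN : A d i ≤ normalizer (O' : Set G) := by
        intro a ha
        refine centralizer_le_normalizer _ (mem_centralizer_iff.2 fun o ho => ?_)
        exact ((mem_centralizer_iff.1 (hLH (map_subtype_le O ho))) a ha).symm
      have hc := CfsgLib.Coprime.card_sup_mul_card_inf (H := A d i) (N := O') hAN
      have h2 : Odd (Nat.card (A d i ⊔ O' : Subgroup G) * Nat.card (A d i ⊓ O' : Subgroup G)) := by
        rw [hc]; exact (h.odd_A i).mul hO'odd
      exact (Nat.odd_mul.1 h2).1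
    refine hsup.of_dvd_nat (Subgroup.card_dvd_of_le ?_)
    have key : ∀ v w : G, v ∈ d.TG i → w ∈ d.TG i → orderOf v = 2 →
        (∀ g : G, Commute v g → Commute w g → Commute d.z g ∧ Commute (d.r i) g) →
        Kt v ≤ H → Kt v ≤ A d i ⊔ O' := by
      intro v w hv hw hv2 hgen hvH k hk
      obtain ⟨hvk, hko⟩ := (h.mem_Kt hv2).1 hk
      set k' := w * k * w⁻¹ with hk'
      have hvw : Commute v w := klein_comm (d.isKleinFour_TG i) hv hw
      have hk'm : k' ∈ Kt v := by
        have := mem_map_of_mem (MulAut.conj w).toMonoidHom hk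
        rwa [map_Kt, ← hvw.eq, mul_inv_cancel_right] at this
      have hkk : Commute k k' := h.commute_of_Kt hv2 hk hk'm
      have hw2 : w * w = 1 := klein_sq (d.isKleinFour_TG i) hw
      have hp : k * k' ∈ A d i := by
        obtain ⟨hv', ho'⟩ := (h.mem_Kt hv2).1 (mul_mem hk hk'm)
        have hwp : Commute w (k * k') := by
          show w * (k * k') = k * k' * w
          calc w * (k * k') = (w * k * w⁻¹) * ((w * w) * k * (w * w)⁻¹) * w := by rw [hk']; group
            _ = k' * k * w := by rw [hw2, one_mul, inv_one, mul_one]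
            _ = _ := by rw [hkk.eq]
        obtain ⟨hz, hr⟩ := hgen _ hv' hwp
        exact h.mem_A.2 ⟨h.mem_Kt_z.2 ⟨hz, ho'⟩, hr⟩
      have hq : k * k'⁻¹ ∈ O' := by
        have hqL : k * k'⁻¹ ∈ L := by
          have ew : k * k'⁻¹ = k * w * k⁻¹ * w⁻¹ := by rw [hk']; group
          rw [ew]
          exact mul_mem (subset_closure ⟨k, hvH hk, w, hw, rfl⟩) (inv_mem (h.TG_le_Lc i hw))
        refine ⟨⟨_, hqL⟩, hmemO _ ?_, rfl⟩
        rw [← Subgroup.orderOf_coe]
        exact ((h.mem_Kt hv2).1 (mul_mem hk (inv_mem hk'm))).2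
      have h2 : k * k ∈ A d i ⊔ O' := by
        have e2 : k * k = k * k' * (k * k'⁻¹) := by
          calc k * k = k * (k * k') * k'⁻¹ := by group
            _ = k * (k' * k) * k'⁻¹ := by rw [hkk.eq]
            _ = _ := by group
        rw [e2]; exact mul_mem (mem_sup_left hp) (mem_sup_right hq)
      obtain ⟨l, hl⟩ := hko
      have e2 : k = ((k * k) ^ l)⁻¹ := by
        refine eq_inv_of_mul_eq_one_left ?_
        rw [← sq, ← pow_mul, ← pow_succ', ← hl, pow_orderOf_eq_one]
      rw [e2]; exact inv_mem (pow_mem h2 l)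
    have hW := h.Wg_le_centralizer i
    refine sup_le (sup_le ?_ ?_) ?_
    · exact key d.z (d.r i) (d.z_mem_TG i) (d.r_mem_TG i) d.orderOf_z (fun g a b => ⟨a, b⟩)
        ((le_sup_left.trans le_sup_left).trans hW)
    · exact key (d.r i) d.z (d.r_mem_TG i) (d.z_mem_TG i) (d.orderOf_r i) (fun g a b => ⟨b, a⟩)
        ((le_sup_right.trans le_sup_left).trans hW)
    · refine key (d.z * d.r i) d.z (mul_mem (d.z_mem_TG i) (d.r_mem_TG i)) (d.z_mem_TG i)
        (orderOf_zr d i) (fun g a b => ⟨b, ?_⟩) (le_sup_right.trans hW)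
      have := b.mul_left a
      rwa [← mul_assoc, invol_mul_self d.orderOf_z, one_mul] at this
  · right
    have hT : ∀ j, ¬ e.F2 j := fun j hj => hF (DP.F2.sim e hj (hsim j 0))
    set R := (Kt d.z).subgroupOf L with hR
    have hcen : Cen e R := by
      refine ⟨fun a ha b hb => Subtype.ext (h.commute_of_Kt_z ha hb).eq, ?_, ?_, ?_, ?_⟩
      · exact (h.odd_Kt d.orderOf_z).of_dvd_nat
          (Subgroup.card_comap_dvd_of_injective _ L.subtype (subtype_injective L))
      · intro a ha
        rw [hex]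
        exact Subtype.ext (h.mem_Kt_z.1 ha).1.eq
      · intro a ha
        rw [hey]
        exact h.normalizes_Kt_z (d.commute_z (d.r_mem i)) ha
      · refine le_antisymm (fun g hg => ?_) (sup_le (fun a ha => ?_) fun s hs => ?_)
        · rw [hez, mem_centralizer_singleton_iff] at hg
          have hgz : Commute d.z (g : G) := (congrArg Subtype.val hg).symm
          obtain ⟨k, hk, s, hs, e1⟩ := h.exists_mul hgz
          have hgH : (g : G) ∈ H := hLH g.2
          have hsH : s ∈ H := by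
            rw [show s = k⁻¹ * g by rw [e1, inv_mul_cancel_left]]
            exact mul_mem (inv_mem (h.Kt_z_le_cent i hk)) hgH
          have hsT : s ∈ L := h.TG_le_Lc i (h.mem_TG_of_cent i hA hs hsH)
          have hkL : k ∈ L := by
            rw [show k = g * s⁻¹ by rw [e1, mul_inv_cancel_right]]
            exact mul_mem g.2 (inv_mem hsT)
          rw [show g = ⟨k, hkL⟩ * ⟨s, hsT⟩ from Subtype.ext e1]
          refine mul_mem (mem_sup_left hk) (mem_sup_right ?_)
          rw [hS]
          rcases d.mem_TG.1 (h.mem_TG_of_cent i hA hs hsH) with rfl | rfl | rfl | rfl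
          · exact one_mem _
          · exact subset_closure (by simp)
          · exact subset_closure (by simp)
          · exact mul_mem (subset_closure (by simp : (⟨d.z, hzL⟩ : L) ∈ _))
              (subset_closure (by simp : (⟨d.r i, hrL⟩ : L) ∈ _))
        · rw [hez, mem_centralizer_singleton_iff]
          exact Subtype.ext (h.mem_Kt_z.1 ha).1.eq.symm
        · rw [mem_centralizer_singleton_iff]
          exact (e.commute_z hs).eq.symm
    have hgen : ∀ N : Subgroup L, N.Normal → (∀ t : L, orderOf t = 2 → t ∈ N) → N = ⊤ := by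
      intro N _ hN
      have hle : L ≤ N.map L.subtype := by
        refine (closure_le _).2 ?_
        rintro _ ⟨g, hg, t, ht, rfl⟩
        have hgt : g * t * g⁻¹ ∈ L := subset_closure ⟨g, hg, t, ht, rfl⟩
        refine ⟨⟨_, hgt⟩, ?_, rfl⟩
        by_cases h1 : g * t * g⁻¹ = 1
        · rw [show (⟨g * t * g⁻¹, hgt⟩ : L) = 1 from Subtype.ext h1]
          exact one_mem N
        · refine hN _ (invol_iff.2 ⟨Subtype.ext ?_, fun e1 => h1 (congrArg Subtype.val e1)⟩)
          show g * t * g⁻¹ * (g * t * g⁻¹) = 1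
          rw [conj_mul, klein_sq (d.isKleinFour_TG i) ht]; group
      refine eq_top_iff.2 fun g _ => ?_
      obtain ⟨g', hg', e1⟩ := hle g.2
      exact Subtype.ext e1 ▸ hg'
    have hk := klein_strong e hcen hT hn hgen
    have hRc : Nat.card R = Nat.card (A d i ⊓ L : Subgroup G) * Nat.card (A d (i + 1)) := by
      rw [← h.card_Kt_inf_Lc i]
      exact Nat.card_congr
        { toFun := fun u => ⟨u.1.1, u.2, u.1.2⟩
          invFun := fun a => ⟨⟨a.1, a.2.2⟩, a.2.1⟩
          left_inv := fun u => rfl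
          right_inv := fun u => rfl }
    have hRy : Nat.card (R ⊓ centralizer ({e.y} : Set L) : Subgroup L) =
        Nat.card (A d i ⊓ L : Subgroup G) := by
      refine Nat.card_congr
        { toFun := fun u => ⟨u.1.1, h.mem_A.2 ⟨u.2.1, ?_⟩, u.1.2⟩
          invFun := fun a => ⟨⟨a.1, a.2.2⟩, (h.mem_A.1 a.2.1).1, mem_centralizer_singleton_iff.2 ?_⟩
          left_inv := fun u => rfl
          right_inv := fun u => rfl }
      · have := congrArg Subtype.val (mem_centralizer_singleton_iff.1 u.2.2)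
        simp only [Subgroup.coe_mul, hey] at this
        exact this.symm
      · rw [hey]
        exact Subtype.ext (h.mem_A.1 a.2.1).2.eq.symm
    have hcz : cz e = 4 * (Nat.card (A d i ⊓ L : Subgroup G) * Nat.card (A d (i + 1))) := by
      show Nat.card _ = _
      rw [hcen.card_cent, hRc, e.card_eq, hn]; ring
    have hce : ce e = 4 * Nat.card (A d i ⊓ L : Subgroup G) := by
      show Nat.card _ = _
      rw [hcen.card_pair 0, hRy]
    rw [hcz, hce] at hk
    set a' := Nat.card (A d i ⊓ L : Subgroup G) with ha'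
    set b := Nat.card (A d (i + 1))
    have hLb : 22 * a' * b ^ 3 ≤ Nat.card L := by
      refine le_of_mul_le_mul_left (a := 32 * a' ^ 2) ?_
        (show 0 < 32 * a' ^ 2 from Nat.mul_pos (by norm_num) (pow_pos Nat.card_pos 2))
      calc 32 * a' ^ 2 * (22 * a' * b ^ 3) = 11 * (4 * (a' * b)) ^ 3 := by ring
        _ ≤ 2 * (Nat.card L * (4 * a') ^ 2) := hk
        _ = _ := by ring
    refine ⟨?_, ?_⟩
    · have hAN : A d i ≤ normalizer (L : Set G) := by
        intro a ha
        exact centralizer_le_normalizer _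
          (mem_centralizer_iff.2 fun o ho => ((mem_centralizer_iff.1 (hLH ho)) a ha).symm)
      have hc := CfsgLib.Coprime.card_sup_mul_card_inf (H := A d i) (N := L) hAN
      have hle : A d i ⊔ L ≤ H := by
        refine sup_le (fun a ha => mem_centralizer_iff.2 fun b hb => ?_) hLH
        exact (h.commute_of_Kt_z (h.mem_A.1 hb).1 (h.mem_A.1 ha).1).eq
      refine le_trans ?_ (Nat.le_of_dvd Nat.card_pos (Subgroup.card_dvd_of_le hle))
      refine le_of_mul_le_mul_right ?_ (show 0 < a' from Nat.card_pos)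
      calc 22 * Nat.card (A d i) * b ^ 3 * a' = Nat.card (A d i) * (22 * a' * b ^ 3) := by ring
        _ ≤ Nat.card (A d i) * Nat.card L := Nat.mul_le_mul_left _ hLb
        _ = _ := by rw [← hc]
    · obtain ⟨c, -, -, h1, h2⟩ := e.exists_cycle (hT 0)
      rw [hez, her] at h1 h2
      exact ⟨c, c.2, congrArg Subtype.val h1, congrArg Subtype.val h2⟩

end Hyp

end CfsgLib.CentFour
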