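import Cfsg.Agent.Lib.CentFour.Global
import Cfsg.Agent.Lib.CentFour.Arith
import Cfsg.Agent.Lib.Classical.Dihedral
import Cfsg.Agent.Lib.Small.Order2520

/-!
# The case where one part is trivial

Then either `C(z)` is dihedral of order eight, or the group has order `2520`; the configuration of
order `7560` is excluded by Sylow's theorem.
-/

set_option autoImplicit false
set_option linter.unusedSectionVars false
set_option linter.style.haveILetI false

namespace CfsgLib.CentFour

open Subgroup CfsgLib.Involutions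

universe u

/-- A four-group acts without fixed points only on the trivial group of odd order. -/
theorem no_group_thirty_six {L : Type u} [Group L] [Finite L] (h36 : Nat.card L = 36) {a b : L}
    (ha : orderOf a = 2) (hb : orderOf b = 2) (hab : Commute a b) (hne : a ≠ b)
    (hC : ∀ t : L, orderOf t = 2 → Nat.card (centralizer ({t} : Set L)) ∣ 4) : False := by
  classical
  haveI : Fact (Nat.Prime 3) := ⟨Nat.prime_three⟩
  have hab1 : orderOf (a * b) = 2 := by
    refine invol_iff.2 ⟨?_, fun e => hne ?_⟩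
    · rw [← sq, hab.mul_pow, sq, sq, invol_mul_self ha, invol_mul_self hb, one_mul]
    · rw [eq_inv_of_mul_eq_one_left e, invol_inv hb]
  have key : ∀ N : Subgroup L, N.Normal → Odd (Nat.card N) → Nat.card N = 1 := by
    intro N hN hodd
    have hcz : ∀ t : L, orderOf t = 2 → Nat.card (N ⊓ centralizer ({t} : Set L) : Subgroup L) = 1 :=
      fun t ht => by
        refine Nat.Coprime.eq_one_of_dvd ?_ (dvd_trans (Subgroup.card_dvd_of_le inf_le_right) (hC t ht))
        exact (Nat.coprime_two_right.2 (hodd.of_dvd_nat (Subgroup.card_dvd_of_le inf_le_left))).pow_right 2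
    have key := four_formula_subgroup N hodd (invol_mul_self ha) (invol_mul_self hb) hab
      (fun w hw => hN.conj_mem w hw a) (fun w hw => hN.conj_mem w hw b)
    rw [hcz a ha, hcz b hb, hcz (a * b) hab1, one_mul, one_mul, mul_eq_one] at key
    exact key.1
  obtain ⟨Q⟩ : Nonempty (Sylow 3 L) := inferInstance
  have hQ : Nat.card (Q : Subgroup L) = 9 := by
    refine (Q.card_eq_multiplicity).trans ?_
    rw [h36]
    have : (36 : ℕ).factorization 3 = 2 := by
      rw [show (36 : ℕ) = 3 ^ 2 * 4 by norm_num, Nat.factorization_mul (by norm_num) (by norm_num),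
        Finsupp.add_apply, Nat.Prime.factorization_pow Nat.prime_three, Finsupp.single_eq_same,
        Nat.factorization_eq_zero_of_not_dvd (by norm_num : ¬ 3 ∣ 4)]
    rw [this]; norm_num
  have hdvd : Nat.card (Sylow 3 L) ∣ 4 := by
    have h1 := Q.card_dvd_index
    have h2 := (Q : Subgroup L).card_mul_index
    rw [hQ, h36] at h2
    rwa [show (Q : Subgroup L).index = 4 by omega] at h1
  have hmod := card_sylow_modEq_one 3 L
  rcases (Nat.le_of_dvd (by norm_num) hdvd).lt_or_eq with hlt | h4
  · have h1 : Nat.card (Sylow 3 L) = 1 := by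
      have hd := hdvd
      unfold Nat.ModEq at hmod
      have hpos : 0 < Nat.card (Sylow 3 L) := Nat.card_pos
      interval_cases hk : Nat.card (Sylow 3 L) <;> simp_all
    haveI : Subsingleton (Sylow 3 L) := (Nat.card_eq_one_iff_unique.1 h1).1
    have := key Q (Sylow.normal_of_subsingleton Q) (by rw [hQ]; decide)
    omega
  · set φ := MulAction.toPermHom L (Sylow 3 L) with hφ
    have hker := (φ.ker).card_mul_index
    rw [h36, Subgroup.index_ker] at hker
    have hrange : Nat.card φ.range ∣ 24 := by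
      have h1 := Subgroup.card_subgroup_dvd_card φ.range
      rwa [Nat.card_perm, h4] at h1
    have h4r : 4 ∣ Nat.card φ.range := by
      have e : Nat.card (Sylow 3 L) = Nat.card (MulAction.orbit φ.range Q) := by
        refine (Nat.card_congr (Equiv.subtypeUnivEquiv fun R => ?_)).symm
        obtain ⟨g, hg⟩ := MulAction.exists_smul_eq L Q R
        exact ⟨⟨φ g, g, rfl⟩, hg⟩
      rw [← h4, e]
      exact ⟨Nat.card (MulAction.stabilizer φ.range Q), by
        rw [← Nat.card_prod]
        exact Nat.card_congr (MulAction.orbitProdStabilizerEquivGroup φ.range Q).symm⟩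
    obtain ⟨q, hq⟩ := h4r
    rw [hq] at hker hrange
    have hk : Nat.card φ.ker * q = 9 := by
      have : Nat.card φ.ker * (4 * q) = 4 * (Nat.card φ.ker * q) := by ring
      omega
    have hodd : Odd (Nat.card φ.ker) :=
      Odd.of_dvd_nat (show Odd 9 by decide) ⟨q, hk.symm⟩
    have := key φ.ker inferInstance hodd
    rw [this, one_mul] at hk
    subst hk
    norm_num at hrange

variable {G : Type u} [Group G] [Finite G] {P : Sylow 2 G}

namespace Hyp

variable {d : DP (P : Subgroup G)} (h : Hyp d)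
include h

set_option maxHeartbeats 1000000 in
/-- The configuration of order `7560` does not occur. -/
theorem card_ne_of_five [IsSimpleGroup G] (i : ℤ) (hA : A d i = ⊥)
    (h5 : Nat.card (A d (i + 1)) = 5) : Nat.card G ≠ 7560 := by
  classical
  haveI : Fact (Nat.Prime 5) := ⟨by norm_num⟩
  haveI : Fact (Nat.Prime 2) := ⟨Nat.prime_two⟩
  intro hG
  set j := i + 1 with hj
  set K := Kt d.z with hK
  have hKA : A d j = K := by
    refine eq_of_le_of_card_ge inf_le_left ?_
    rw [h.card_K i, hA, Subgroup.card_bot, one_mul]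
  have hK5 : Nat.card K = 5 := hKA ▸ h5
  have hAne : A d j ≠ ⊥ := fun e => by
    rw [e, Subgroup.card_bot] at h5
    norm_num at h5
  have hzr := orderOf_zr d j
  have hKr : Kt (d.r j) = K ∧ Kt (d.z * d.r j) = K := by
    have h1 := h.A_le_Kt_r j
    rw [hKA] at h1
    exact ⟨(eq_of_le_of_card_ge h1.1 (h.card_Kt (d.orderOf_r j)).le).symm,
      (eq_of_le_of_card_ge h1.2 (h.card_Kt hzr).le).symm⟩
  have hWK : Wg d j = K := by rw [Wg, hKr.1, hKr.2, sup_idem, sup_idem]
  set H := centralizer (A d j : Set G) with hH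
  set N := normalizer (K : Set G) with hN
  have hTN : normalizer (d.TG j : Set G) ≤ N := by
    have := h.normalizer_TG_le j
    rwa [hWK] at this
  obtain ⟨c, hcN, hcodd, hc1, hc2⟩ := d.exists_cycle (h.fus j)
  -- `c` centralizes `K`
  haveI : IsCyclic K := isCyclic_of_prime_card hK5
  have haut : Nat.card (MulAut K) = 4 := by
    rw [IsCyclic.card_mulAut, hK5, Nat.totient_prime (by norm_num)]
  have hcH : c ∈ H := by
    set ψ := K.normalizerMonoidHom with hψ
    have h1 : orderOf (ψ ⟨c, hTN hcN⟩) ∣ orderOf c := by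
      refine (orderOf_map_dvd ψ _).trans ?_
      rw [Subgroup.orderOf_mk]
    have h2 : orderOf (ψ ⟨c, hTN hcN⟩) ∣ 4 := haut ▸ orderOf_dvd_natCard _
    have h3 : ψ ⟨c, hTN hcN⟩ = 1 := by
      rw [← orderOf_eq_one_iff]
      exact Nat.Coprime.eq_one_of_dvd
        ((Nat.coprime_two_right.2 (hcodd.of_dvd_nat h1)).pow_right 2) h2
    have h4 : (⟨c, hTN hcN⟩ : normalizer (K : Set G)) ∈ ψ.ker := MonoidHom.mem_ker.2 h3
    rw [hψ, normalizerMonoidHom_ker, mem_subgroupOf] at h4
    show c ∈ centralizer (A d j : Set G)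
    rwa [hKA]
  have hzH : d.z ∈ H := h.TG_le_cent j (d.z_mem_TG j)
  have hrH : d.r j ∈ H := h.TG_le_cent j (d.r_mem_TG j)
  -- involutions of `H`
  have h8 : ¬ 8 ∣ Nat.card H := h.not_eight_dvd j hAne
  obtain ⟨S, e, -, -, -, -, -, hS⟩ := exists_dp_four (a := (⟨d.z, hzH⟩ : H))
    (b := ⟨d.r j, hrH⟩) (by rw [Subgroup.orderOf_mk]; exact d.orderOf_z)
    (by rw [Subgroup.orderOf_mk]; exact d.orderOf_r j)
    (Subtype.ext (d.commute_z (d.r_mem j)).eq) (fun e' => d.z_ne_r j (congrArg Subtype.val e')) h8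
  have hconjH : ∀ t : G, t ∈ H → orderOf t = 2 → ∃ g ∈ H, g * t * g⁻¹ = d.z := by
    intro t htH ht
    obtain ⟨g, hg⟩ := exists_conj_mem_sylow_one S (x := (⟨t, htH⟩ : H))
      (by rwa [Subgroup.orderOf_mk])
    replace hg : g * (⟨t, htH⟩ : H) * g⁻¹ ∈ (S : Subgroup H) := hg
    rw [hS] at hg
    have hne : g * (⟨t, htH⟩ : H) * g⁻¹ ≠ 1 :=
      invol_ne_one (conj_invol g (by rwa [Subgroup.orderOf_mk]))
    rcases (mem_closure_commute_pair (by rw [Subgroup.orderOf_mk]; exact d.orderOf_z)
      (by rw [Subgroup.orderOf_mk]; exact d.orderOf_r j)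
      (Subtype.ext (d.commute_z (d.r_mem j)).eq)).1 hg with e1 | e1 | e1 | e1
    · exact absurd e1 hne
    · exact ⟨g, g.2, congrArg Subtype.val e1⟩
    · have e2 : (g : G) * t * (g : G)⁻¹ = d.r j := congrArg Subtype.val e1
      refine ⟨c⁻¹ * g, mul_mem (inv_mem hcH) g.2, ?_⟩
      rw [show c⁻¹ * (g : G) * t * (c⁻¹ * (g : G))⁻¹ = c⁻¹ * ((g : G) * t * (g : G)⁻¹) * c by group,
        e2, ← hc1]
      group
    · have e2 : (g : G) * t * (g : G)⁻¹ = d.z * d.r j := congrArg Subtype.val e1
      refine ⟨c⁻¹ * c⁻¹ * g, mul_mem (mul_mem (inv_mem hcH) (inv_mem hcH)) g.2, ?_⟩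
      rw [show c⁻¹ * c⁻¹ * (g : G) * t * (c⁻¹ * c⁻¹ * (g : G))⁻¹ =
          c⁻¹ * (c⁻¹ * ((g : G) * t * (g : G)⁻¹) * c) * c by simp only [mul_assoc, mul_inv_rev, inv_inv],
        e2, ← hc2, show c⁻¹ * (c * d.r j * c⁻¹) * c = d.r j by group, ← hc1]
      group
  set C := centralizer ({d.z} : Set G) with hC
  have hC40 : Nat.card C = 40 := by rw [hC, h.card_cent, ← hK, hK5]
  have hCN : C ≤ N := fun g hg => by
    haveI := Fintype.ofFinite G
    exact mem_normalizer_fintype fun a ha =>
      h.normalizes_Kt_z (mem_centralizer_singleton_iff.1 hg).symm ha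
  have hHN : H ≤ N := by
    show centralizer (A d j : Set G) ≤ normalizer (K : Set G)
    rw [hKA]; exact fun g hg => centralizer_le_normalizer _ hg
  -- Sylow
  obtain ⟨S5, hS5⟩ := (IsPGroup.of_card (p := 5) (n := 1) (by rw [hK5, pow_one]) :
    IsPGroup 5 K).exists_le_sylow
  have hS5c : Nat.card (S5 : Subgroup G) = 5 := by
    rw [S5.card_eq_multiplicity, hG]
    have : (7560 : ℕ).factorization 5 = 1 := by
      rw [show (7560 : ℕ) = 5 ^ 1 * 1512 by norm_num,
        Nat.factorization_mul (by norm_num) (by norm_num), Finsupp.add_apply,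
        Nat.Prime.factorization_pow (by norm_num), Finsupp.single_eq_same,
        Nat.factorization_eq_zero_of_not_dvd (by norm_num : ¬ 5 ∣ 1512)]
    rw [this, pow_one]
  have hSK : K = (S5 : Subgroup G) := eq_of_le_of_card_ge hS5 (by rw [hK5, hS5c])
  have hidx : N.index ≡ 1 [MOD 5] := by
    have h1 := card_sylow_modEq_one 5 G
    rw [S5.card_eq_index_normalizer] at h1
    rw [hN, hSK]
    exact h1
  have hNG := N.card_mul_index
  rw [hG] at hNG
  have h120 : 120 ∣ Nat.card N := by
    have h40 : 40 ∣ Nat.card N := hC40 ▸ Subgroup.card_dvd_of_le hCN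
    have h3c : 3 ∣ orderOf c := by
      by_contra h3
      obtain ⟨m, hm⟩ := exists_pow_eq_self_of_coprime (x := c)
        ((Nat.Prime.coprime_iff_not_dvd Nat.prime_three).2 h3)
      have hz3 : Commute (c ^ 3) d.z := by
        refine mul_inv_eq_iff_eq_mul.1 ?_
        have e3 : c * (d.z * d.r j) * c⁻¹ = d.z := by
          rw [← conj_mul, hc1, hc2, ← mul_assoc, ← (d.commute_z (d.r_mem j)).eq, mul_assoc,
            invol_mul_self (d.orderOf_r j), mul_one]
        calc c ^ 3 * d.z * (c ^ 3)⁻¹ = c * (c * (c * d.z * c⁻¹) * c⁻¹) * c⁻¹ := by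
              simp only [pow_succ, pow_zero, one_mul, mul_inv_rev, mul_assoc]
          _ = d.z := by rw [hc1, hc2, e3]
      have hcz : Commute c d.z := hm ▸ hz3.pow_left m
      refine d.z_ne_r j ?_
      rw [← hc1, hcz.eq, mul_inv_cancel_right]
    have h3 : 3 ∣ Nat.card N := h3c.trans (Subgroup.orderOf_dvd_natCard _ (hTN hcN))
    exact (show Nat.Coprime 40 3 by norm_num).mul_dvd_of_dvd_of_dvd h40 h3
  have hN360 : Nat.card N = 360 := by
    obtain ⟨q, hq⟩ := h120
    rw [hq] at hNG ⊢
    have h63 : q * N.index = 63 := by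
      have : 120 * q * N.index = 120 * (q * N.index) := by ring
      omega
    have hle : N.index ≤ 63 := Nat.le_of_dvd (by norm_num) ⟨q, by rw [mul_comm]; exact h63.symm⟩
    have hne1 : N.index ≠ 1 := fun e1 => by
      haveI : K.Normal := normalizer_eq_top_iff.1 (Subgroup.index_eq_one.1 e1)
      rcases IsSimpleGroup.eq_bot_or_eq_top_of_normal K inferInstance with e2 | e2
      · rw [e2, Subgroup.card_bot] at hK5; norm_num at hK5
      · rw [e2, Subgroup.card_top, hG] at hK5; norm_num at hK5
    unfold Nat.ModEq at hidx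
    have hdvd : N.index ∣ 63 := ⟨q, by rw [mul_comm]; exact h63.symm⟩
    interval_cases hk : N.index <;> omega
  -- `H` has index two in `N`
  have hinf : Nat.card (C ⊓ H : Subgroup G) = 20 := by
    refine Nat.dvd_antisymm ?_ ?_
    · rw [show 20 = 4 * 5 by norm_num, ← h5, ← h.card_pair j]
      refine Subgroup.card_dvd_of_le fun g hg => ?_
      obtain ⟨a, ha, s, hs, rfl⟩ := h.exists_mul (mem_centralizer_singleton_iff.1 hg.1).symm
      have haH : a ∈ H := h.Kt_z_le_cent j ha
      have hsT : s ∈ d.TG j := h.mem_TG_of_cent j hAne hs ((mul_mem_cancel_left haH).1 hg.2)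
      refine mem_centralizer_iff.2 ?_
      rintro _ (rfl | rfl)
      · exact (mem_centralizer_singleton_iff.1 hg.1).symm
      · exact ((h.mem_A.1 (hKA.symm ▸ ha : a ∈ A d j)).2.mul_right
          (klein_comm (d.isKleinFour_TG j) (d.r_mem_TG j) hsT)).eq
    · have h5d : 5 ∣ Nat.card (C ⊓ H : Subgroup G) := hK5 ▸ Subgroup.card_dvd_of_le
        (le_inf (fun a ha => mem_centralizer_singleton_iff.2 (h.mem_Kt_z.1 ha).1.eq.symm)
          (h.Kt_z_le_cent j))
      have h4d : 4 ∣ Nat.card (C ⊓ H : Subgroup G) := (d.isKleinFour_TG j).card_four ▸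
        Subgroup.card_dvd_of_le (le_inf (fun a ha =>
          mem_centralizer_singleton_iff.2 (d.commute_z (d.TG_le j ha)).eq.symm) (h.TG_le_cent j))
      exact (show Nat.Coprime 4 5 by norm_num).mul_dvd_of_dvd_of_dvd h4d h5d
  have hnorm : ∀ g ∈ N, ∀ a ∈ H, g * a * g⁻¹ ∈ H := by
    intro g hg a ha
    show g * a * g⁻¹ ∈ centralizer (A d j : Set G)
    rw [hKA]
    refine mem_centralizer_iff.2 fun k hk => ?_
    have hk' : g⁻¹ * k * g⁻¹⁻¹ ∈ K := (mem_normalizer_iff.1 (inv_mem hg) k).1 hk
    have ha' : a ∈ centralizer (K : Set G) := hKA ▸ ha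
    have e1 := (mem_centralizer_iff.1 ha') _ hk'
    rw [inv_inv] at e1
    calc k * (g * a * g⁻¹) = g * (g⁻¹ * k * g * a) * g⁻¹ := by group
      _ = g * (a * (g⁻¹ * k * g)) * g⁻¹ := by rw [e1]
      _ = _ := by group
  have hNH : N ≤ normalizer (H : Set G) := fun g hg => by
    haveI := Fintype.ofFinite G
    exact mem_normalizer_fintype (hnorm g hg)
  have hsup : C ⊔ H = N := by
    refine le_antisymm (sup_le hCN hHN) fun g hg => ?_
    have hmem : g * d.z * g⁻¹ ∈ H := hnorm g hg _ hzH
    obtain ⟨w, hw, e1⟩ := hconjH _ hmem (conj_invol g d.orderOf_z)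
    have hwC : w * g ∈ C := by
      refine mem_centralizer_singleton_iff.2 ?_
      calc w * g * d.z = w * (g * d.z * g⁻¹) * w⁻¹ * (w * g) := by group
        _ = _ := by rw [e1]
    rw [show g = w⁻¹ * (w * g) by group]
    exact mul_mem (mem_sup_right (inv_mem hw)) (mem_sup_left hwC)
  have hH180 : Nat.card H = 180 := by
    have h1 := CfsgLib.Coprime.card_sup_mul_card_inf (H := C) (N := H) (hCN.trans hNH)
    rw [hsup, hN360, hinf, hC40] at h1
    omega
  -- the normal complement
  set K' := K.subgroupOf H with hK'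
  have hKH : K ≤ H := h.Kt_z_le_cent j
  have hK'5 : Nat.card K' = 5 := by
    rw [Nat.card_congr (subgroupOfEquivOfLe hKH).toEquiv, hK5]
  have hK'idx : K'.index = 36 := by
    have h1 := K'.card_mul_index
    rw [hK'5, hH180] at h1
    omega
  let Q : Sylow 5 H := (IsPGroup.of_card (p := 5) (n := 1) (by rw [hK'5, pow_one]) :
    IsPGroup 5 K').toSylow (by rw [hK'idx]; norm_num)
  have hQ : normalizer ((Q : Subgroup H) : Set H) ≤ centralizer ((Q : Subgroup H) : Set H) := by
    intro g _
    refine mem_centralizer_iff.2 fun k hk => Subtype.ext ?_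
    exact (mem_centralizer_iff.1 g.2) _ (hKA.symm ▸ (hk : (k : G) ∈ K))
  set L := (MonoidHom.transferSylow Q hQ).ker with hL
  have hcompl := MonoidHom.ker_transferSylow_isComplement' Q hQ
  have hL36 : Nat.card L = 36 := by
    rw [hL, ← hcompl.index_eq_card]
    exact hK'idx
  have hinv : ∀ t : H, orderOf t = 2 → t ∈ L := by
    intro t ht
    refine MonoidHom.mem_ker.2 ?_
    rw [← orderOf_eq_one_iff]
    refine Nat.Coprime.eq_one_of_dvd (show Nat.Coprime _ 2 from ?_)
      (ht ▸ orderOf_map_dvd _ t)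
    refine Nat.Coprime.coprime_dvd_left (orderOf_dvd_natCard _) ?_
    rw [show Nat.card (Q : Subgroup H) = 5 from hK'5]
    norm_num
  have hcC : ∀ t : L, orderOf t = 2 → Nat.card (centralizer ({t} : Set L)) ∣ 4 := by
    intro t ht
    have ht' : orderOf ((t : H) : G) = 2 := by rw [Subgroup.orderOf_coe, Subgroup.orderOf_coe, ht]
    obtain ⟨w, hw, e1⟩ := hconjH _ (t : H).2 ht'
    let f : L →* G :=
      ((MulAut.conj w).toMonoidHom.comp H.subtype).comp L.subtype
    have hf : Function.Injective f :=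
      (MulAut.conj w).injective.comp ((subtype_injective H).comp (subtype_injective L))
    have hle : (centralizer ({t} : Set L)).map f ≤ C ⊓ H := by
      rintro _ ⟨g, hg, rfl⟩
      refine ⟨mem_centralizer_singleton_iff.2 ?_, ?_⟩
      · have e2 : ((g : H) : G) * ((t : H) : G) = ((t : H) : G) * ((g : H) : G) :=
          congrArg (fun u : L => ((u : H) : G)) (mem_centralizer_singleton_iff.1 hg)
        show w * ((g : H) : G) * w⁻¹ * d.z = d.z * (w * ((g : H) : G) * w⁻¹)
        rw [← e1, conj_mul, conj_mul, e2]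
      · show w * ((g : H) : G) * w⁻¹ ∈ H
        exact mul_mem (mul_mem hw (g : H).2) (inv_mem hw)
    have h20 := Subgroup.card_dvd_of_le hle
    rw [hinf, card_map_of_injective hf] at h20
    have h36 := Subgroup.card_subgroup_dvd_card (centralizer ({t} : Set L))
    rw [hL36] at h36
    exact (Nat.dvd_gcd h36 h20).trans (by norm_num)
  refine no_group_thirty_six (L := L) hL36 (a := ⟨⟨d.z, hzH⟩, hinv _ ?_⟩)
    (b := ⟨⟨d.r j, hrH⟩, hinv _ ?_⟩) ?_ ?_ ?_ ?_ hcC
  · rw [Subgroup.orderOf_mk]; exact d.orderOf_z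
  · rw [Subgroup.orderOf_mk]; exact d.orderOf_r j
  · rw [Subgroup.orderOf_mk, Subgroup.orderOf_mk]; exact d.orderOf_z
  · rw [Subgroup.orderOf_mk, Subgroup.orderOf_mk]; exact d.orderOf_r j
  · exact Subtype.ext (Subtype.ext (d.commute_z (d.r_mem j)).eq)
  · exact fun e' => d.z_ne_r j (congrArg (fun u : L => ((u : H) : G)) e')

/-- The outcome of the configuration. -/
theorem outcome [IsSimpleGroup G] :
    Nonempty (centralizer ({d.z} : Set G) ≃* DihedralGroup 4) ∨ Nat.card G = 2520 := by
  classical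
  obtain ⟨i, hA⟩ := h.exists_A_eq_bot
  obtain ⟨o, s, m, δ, hδ, hm, hs, ho, hg, h1, h2⟩ := h.order_formula i
  have hK := h.card_K i
  rw [hA, Subgroup.card_bot] at hs h1 h2 hK
  rw [one_mul] at hK
  set b := Nat.card (A d (i + 1)) with hb
  push_cast at h1 h2
  simp only [one_mul] at h1 h2
  rcases Nat.lt_or_ge b 2 with hlt | hge
  · left
    have hb1 : b = 1 := by have : 0 < b := Nat.card_pos; omega
    have hc8 : Nat.card (centralizer ({d.z} : Set G)) = 8 := by rw [h.card_cent, hK, hb1]
    refine CfsgLib.Classical.nonempty_mulEquiv_dihedralGroup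
      (x := (⟨d.x, mem_centralizer_singleton_iff.2 h.commute_zx.eq.symm⟩ :
        centralizer ({d.z} : Set G)))
      (s := ⟨d.y, mem_centralizer_singleton_iff.2 (d.commute_z d.y_mem).eq.symm⟩)
      (by norm_num) ?_ ?_ ?_ ?_ (by rw [hc8])
    · rw [Subgroup.orderOf_mk]; exact h.orderOf_x
    · exact Subtype.ext (invol_mul_self d.orderOf_y)
    · exact Subtype.ext d.conj_y
    · rintro ⟨k, hk⟩
      exact d.y_not ⟨k, by simpa using congrArg Subtype.val hk⟩
  · rcases arith (b := b) (s := s) (by omega) hge hδ ho hm h1 h2 with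
      ⟨rfl, hb5, hm1⟩ | ⟨rfl, hb3, hm2⟩
    · exfalso
      refine h.card_ne_of_five i hA hb5 ?_
      rw [hb5] at hs
      obtain rfl : s = 3 := by omega
      rw [hb5, hm1] at h1
      norm_num at h1
      omega
    · right
      rw [hb3] at hs
      obtain rfl : s = 2 := by omega
      rw [hb3, hm2] at h1
      norm_num at h1
      omega

end Hyp

end CfsgLib.CentFour
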