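import Cfsg.Agent.Lib.CentFour.One
import Cfsg.Agent.Lib.DGroup.Even
import Cfsg.Agent.Lib.DGroup.Fusion
import Cfsg.Agent.Lib.PGroups.MaximalClass
import Cfsg.Agent.Lib.PGroups.MaximalClassTwo
import Cfsg.Agent.Lib.Transfer.ThompsonTransfer
import Cfsg.Agent.Lib.Recog.OrderSixty
import Cfsg.Agent.Lib.Small.Order60
import Cfsg.Agent.S0201

/-!
# The Sylow subgroup of a simple group with a centralizer of order four
-/

set_option autoImplicit false
set_option linter.unusedSectionVars false
set_option linter.style.haveILetI false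

namespace CfsgLib.CentFour

open Subgroup CfsgLib.Involutions

universe u

variable {G : Type u} [Group G] [Finite G]

theorem not_isSimple_of_index_two [IsSimpleGroup G] (hna : ¬ IsMulCommutative G) {M : Subgroup G}
    (hM : M.index = 2) : False := by
  rcases IsSimpleGroup.eq_bot_or_eq_top_of_normal M (normal_of_index_eq_two hM) with e | e
  · rw [e, Subgroup.index_bot] at hM
    haveI : Fact (Nat.Prime 2) := ⟨Nat.prime_two⟩
    haveI := isCyclic_of_prime_card hM
    exact hna IsCyclic.isMulCommutative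
  · rw [e, Subgroup.index_top] at hM
    norm_num at hM

/-- No element of order four outside the quaternion and dihedral maximal subgroups of a
semidihedral Sylow subgroup is self-centralizing in a simple group. -/
theorem false_of_semidihedral [IsSimpleGroup G] (hna : ¬ IsMulCommutative G) (S : Sylow 2 G)
    {k : ℕ} (hSc : Nat.card (S : Subgroup G) = 2 ^ (k + 4)) {a b : (S : Subgroup G)}
    (ha : orderOf a = 2 ^ (k + 3)) (hb : orderOf b = 2)
    (hba : b * a * b⁻¹ = a ^ (2 ^ (k + 2) - 1)) {v : G}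
    (hv : orderOf v = 4) (hC : Nat.card (centralizer ({v} : Set G)) ≤ 4) : False := by
  classical
  haveI : Fact (Nat.Prime 2) := ⟨Nat.prime_two⟩
  set h : ℤ := 2 ^ (k + 2) with hh
  have hh4 : (4 : ℤ) ∣ h := ⟨2 ^ k, by rw [hh, pow_add]; ring⟩
  have hpow : (2 ^ (k + 2) : ℕ) - 1 + 1 = 2 ^ (k + 2) := by
    have := Nat.one_le_pow (k + 2) 2 (by norm_num); omega
  have hord : ((orderOf a : ℕ) : ℤ) = 2 * h := by
    rw [ha, hh, pow_succ']; push_cast; ring
  have hba' : b * a * b⁻¹ = a ^ (h - 1) := by
    rw [hba, ← zpow_natCast]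
    congr 1
    rw [hh]
    have : ((2 ^ (k + 2) - 1 : ℕ) : ℤ) + 1 = ((2 ^ (k + 2) : ℕ) : ℤ) := by exact_mod_cast hpow
    push_cast at this
    linarith
  have hbb : b * b = 1 := invol_mul_self hb
  have hbzp : ∀ i : ℤ, b * a ^ i = a ^ (i * (h - 1)) * b := fun i => by
    rw [← mul_inv_eq_iff_eq_mul, ← conj_zpow, hba', ← zpow_mul, mul_comm]
  have hbmem : b ∉ zpowers a := by
    rintro ⟨i, rfl⟩
    have hc : a ^ i * a * (a ^ i)⁻¹ = a := by group
    have hne : a ^ (h - 1) ≠ a := fun e => by
      have h1 : a ^ (h - 2) = 1 := by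
        rw [show h - 2 = (h - 1) + (-1) by ring, zpow_add, e, zpow_neg_one, mul_inv_cancel]
      have h2 := orderOf_dvd_iff_zpow_eq_one.2 h1
      rw [hord] at h2
      have h4 : (4 : ℤ) ≤ h := Int.le_of_dvd (by positivity) hh4
      have := Int.le_of_dvd (by omega) h2
      omega
    exact hne (hba'.symm.trans hc)
  -- every element is `aⁱ` or `aⁱ b`
  have hidx : (zpowers a).index = 2 := by
    have h1 := (zpowers a).card_mul_index
    rw [Nat.card_zpowers, ha, hSc, show k + 4 = k + 3 + 1 from rfl, pow_succ (2 : ℕ) (k + 3)] at h1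
    exact Nat.eq_of_mul_eq_mul_left (pow_pos (by norm_num) _) h1
  have hcov : ∀ g : (S : Subgroup G), (∃ i : ℤ, g = a ^ i) ∨ ∃ i : ℤ, g = a ^ i * b := by
    intro g
    by_cases hg : g ∈ zpowers a
    · obtain ⟨i, hi⟩ := hg; exact Or.inl ⟨i, hi.symm⟩
    · have : g * b ∈ zpowers a := (mul_mem_iff_of_index_two hidx).2 (iff_of_false hg hbmem)
      obtain ⟨i, hi⟩ := this
      exact Or.inr ⟨i, by rw [show a ^ i = g * b from hi, mul_assoc, hbb, mul_one]⟩
  have heven : ∀ i j : ℤ, a ^ i = a ^ j → Even i → Even j := fun i j e hi => by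
    have : ((orderOf a : ℕ) : ℤ) ∣ i - j := orderOf_dvd_iff_zpow_eq_one.2
      (by rw [zpow_sub, e, mul_inv_cancel])
    rw [hord] at this
    have h2 : Even (i - j) := even_iff_two_dvd.2 ((dvd_mul_right 2 h).trans this)
    exact (Int.even_sub.1 h2).1 hi
  -- the maximal subgroup containing all involutions
  let M : Subgroup (S : Subgroup G) :=
    { carrier := {g | ∃ i : ℤ, Even i ∧ (g = a ^ i ∨ g = a ^ i * b)}
      one_mem' := ⟨0, Even.zero, Or.inl (zpow_zero a).symm⟩
      mul_mem' := by
        rintro g g' ⟨i, hi, e⟩ ⟨j, hj, e'⟩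
        rcases e with rfl | rfl <;> rcases e' with rfl | rfl
        · exact ⟨i + j, hi.add hj, Or.inl (zpow_add a i j).symm⟩
        · exact ⟨i + j, hi.add hj, Or.inr (by rw [zpow_add, mul_assoc])⟩
        · exact ⟨i + j * (h - 1), hi.add (hj.mul_right _),
            Or.inr (by rw [mul_assoc, hbzp, ← mul_assoc, ← zpow_add])⟩
        · refine ⟨i + j * (h - 1), hi.add (hj.mul_right _), Or.inl ?_⟩
          calc a ^ i * b * (a ^ j * b) = a ^ i * (b * a ^ j) * b := by group
            _ = a ^ i * (a ^ (j * (h - 1)) * b) * b := by rw [hbzp]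
            _ = _ := by rw [mul_assoc, mul_assoc, hbb, mul_one, ← zpow_add]
      inv_mem' := by
        rintro g ⟨i, hi, e⟩
        rcases e with rfl | rfl
        · exact ⟨-i, hi.neg, Or.inl (zpow_neg a i).symm⟩
        · refine ⟨-i * (h - 1), hi.neg.mul_right _, Or.inr ?_⟩
          rw [mul_inv_rev, invol_inv hb, ← zpow_neg, hbzp] }
  have hMi : M.index = 2 := by
    rw [index_eq_two_iff]
    refine ⟨a, fun g => ?_⟩
    have hga : ∀ i : ℤ, a ^ i * b * a = a ^ (i + (h - 1)) * b := fun i => by
      have := hbzp 1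
      rw [zpow_one, one_mul] at this
      rw [mul_assoc, this, ← mul_assoc, ← zpow_add]
    have hodd : Odd (h - 1) := (even_iff_two_dvd.2 ((by norm_num : (2 : ℤ) ∣ 4).trans hh4)).sub_odd odd_one
    have hb2 : ∀ i j : ℤ, a ^ i ≠ a ^ j * b := fun i j e => hbmem ⟨-j + i, by
      show a ^ (-j + i) = b
      rw [zpow_add, e, ← mul_assoc, ← zpow_add, neg_add_cancel, zpow_zero, one_mul]⟩
    have hmem1 : ∀ i : ℤ, a ^ i ∈ M ↔ Even i := fun i => ⟨fun ⟨j, hj, e⟩ => by
      rcases e with e | e
      · exact heven j i e.symm hj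
      · exact absurd e (hb2 i j), fun hi => ⟨i, hi, Or.inl rfl⟩⟩
    have hmem2 : ∀ i : ℤ, a ^ i * b ∈ M ↔ Even i := fun i => ⟨fun ⟨j, hj, e⟩ => by
      rcases e with e | e
      · exact absurd e.symm (hb2 j i)
      · exact heven j i (mul_right_cancel e).symm hj, fun hi => ⟨i, hi, Or.inr rfl⟩⟩
    rcases hcov g with ⟨i, rfl⟩ | ⟨i, rfl⟩
    · nth_rw 2 [← zpow_one a]
      rw [← zpow_add, hmem1, hmem1, Int.even_add_one]
      unfold Xor
      tauto
    · rw [hga, hmem2, hmem2, Int.even_add]
      have := Int.not_even_iff_odd.2 hodd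
      unfold Xor
      tauto
  -- involutions lie in `M`
  have hinv : ∀ g : (S : Subgroup G), g * g = 1 → g ∈ M := by
    intro g hg
    rcases hcov g with ⟨i, rfl⟩ | ⟨i, rfl⟩
    · rw [← zpow_add] at hg
      have h2 := orderOf_dvd_iff_zpow_eq_one.2 hg
      rw [hord, ← two_mul] at h2
      have h3 := (Int.mul_dvd_mul_iff_left two_ne_zero).1 h2
      exact ⟨i, even_iff_two_dvd.2 (((by norm_num : (2 : ℤ) ∣ 4).trans hh4).trans h3), Or.inl rfl⟩
    · have e : a ^ i * b * (a ^ i * b) = a ^ (i * h) := by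
        calc a ^ i * b * (a ^ i * b) = a ^ i * (b * a ^ i) * b := by group
          _ = a ^ i * (a ^ (i * (h - 1)) * b) * b := by rw [hbzp]
          _ = _ := by rw [mul_assoc, mul_assoc, hbb, mul_one, ← zpow_add]; congr 1; ring
      rw [e] at hg
      have h2 := orderOf_dvd_iff_zpow_eq_one.2 hg
      rw [hord] at h2
      have h3 : (2 : ℤ) ∣ i := (mul_dvd_mul_iff_right (by positivity : h ≠ 0)).1 h2
      exact ⟨i, even_iff_two_dvd.2 h3, Or.inr rfl⟩
  -- conjugates of `v` lie outside
  have hout : ∀ (g : G) (hg : g⁻¹ * v * g ∈ (S : Subgroup G)),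
      (⟨_, hg⟩ : (S : Subgroup G)) ∉ M := by
    intro g hg hM
    obtain ⟨i, hi, e | e⟩ := hM
    · -- `a` commutes with a conjugate of `v`
      have hc : (a : G) * (g⁻¹ * v * g) = g⁻¹ * v * g * a := by
        have : a * ⟨_, hg⟩ = ⟨_, hg⟩ * a := by rw [e]; exact ((Commute.refl a).zpow_right i).eq
        exact congrArg Subtype.val this
      have hle : (zpowers (g * (a : G) * g⁻¹)) ≤ centralizer ({v} : Set G) := by
        rw [zpowers_le, mem_centralizer_singleton_iff]
        calc g * (a : G) * g⁻¹ * v = g * ((a : G) * (g⁻¹ * v * g)) * g⁻¹ := by group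
          _ = _ := by rw [hc]; group
      have h1 := Nat.le_of_dvd Nat.card_pos (Subgroup.card_dvd_of_le hle)
      rw [Nat.card_zpowers, show g * (a : G) * g⁻¹ = (MulAut.conj g) a from rfl,
        MulEquiv.orderOf_eq, Subgroup.orderOf_coe, ha] at h1
      have : 2 ^ 3 ≤ 2 ^ (k + 3) := Nat.pow_le_pow_right (by norm_num) (by omega)
      omega
    · -- an involution
      have hsq : (⟨_, hg⟩ : (S : Subgroup G)) ^ 2 = 1 := by
        rw [e, sq]
        calc a ^ i * b * (a ^ i * b) = a ^ i * (b * a ^ i) * b := by group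
          _ = a ^ i * (a ^ (i * (h - 1)) * b) * b := by rw [hbzp]
          _ = a ^ (i * h) := by rw [mul_assoc, mul_assoc, hbb, mul_one, ← zpow_add]; congr 1; ring
          _ = 1 := by
            rw [← orderOf_dvd_iff_zpow_eq_one, hord]
            exact mul_dvd_mul_right (even_iff_two_dvd.1 hi) h
      have ho := orderOf_dvd_of_pow_eq_one hsq
      rw [Subgroup.orderOf_mk, show g⁻¹ * v * g = (MulAut.conj g⁻¹) v by simp, MulEquiv.orderOf_eq,
        hv] at ho
      norm_num at ho
  haveI : M.Normal := normal_of_index_eq_two hMi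
  obtain ⟨ϕ, hϕ⟩ : ∃ ϕ : (S : Subgroup G) →* ℤˣ, ∀ g, (g ∈ M → ϕ g = 1) ∧ (g ∉ M → ϕ g = -1) := by
    refine ⟨{ toFun := fun g => if g ∈ M then 1 else -1
              map_one' := if_pos (one_mem M)
              map_mul' := fun g g' => ?_ }, fun g => ⟨fun hg => if_pos hg, fun hg => if_neg hg⟩⟩
    by_cases h1 : g ∈ M <;> by_cases h2 : g' ∈ M <;>
      simp [h1, h2, mul_mem_iff_of_index_two hMi]
  haveI : Fintype (Quotient (MulAction.orbitRel (zpowers v) (G ⧸ (S : Subgroup G)))) :=
    Fintype.ofFinite _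
  haveI := (S : Subgroup G).fintypeQuotientOfFiniteIndex
  have htr : MonoidHom.transfer ϕ v = -1 := by
    rw [MonoidHom.transfer_eq_prod_quotient_orbitRel_zpowers_quot]
    have key : ∀ q : Quotient (MulAction.orbitRel (zpowers v) (G ⧸ (S : Subgroup G))),
        ϕ ⟨q.out.out⁻¹ * v ^ Function.minimalPeriod (v • ·) q.out * q.out.out,
          QuotientGroup.out_conj_pow_minimalPeriod_mem _ v q.out⟩ =
          (-1) ^ Function.minimalPeriod (v • ·) q.out := by
      intro q
      set m := Function.minimalPeriod (v • ·) q.out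
      set g := q.out.out
      rcases Nat.even_or_odd m with hev | hod
      · rw [hev.neg_one_pow]
        refine (hϕ _).1 (hinv _ (Subtype.ext ?_))
        show g⁻¹ * v ^ m * g * (g⁻¹ * v ^ m * g) = 1
        obtain ⟨l, hl⟩ := hev
        have : v ^ m * v ^ m = 1 := by
          rw [← pow_add, hl, show l + l + (l + l) = 4 * l by ring, pow_mul, ← hv, pow_orderOf_eq_one,
            one_pow]
        calc g⁻¹ * v ^ m * g * (g⁻¹ * v ^ m * g) = g⁻¹ * (v ^ m * v ^ m) * g := by group
          _ = 1 := by rw [this]; group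
      · rw [hod.neg_one_pow]
        obtain ⟨l, hl⟩ := hod
        have hmem : g⁻¹ * v ^ m * g ∈ (S : Subgroup G) :=
          QuotientGroup.out_conj_pow_minimalPeriod_mem _ v q.out
        have hpw : v ^ m = v ∨ v ^ m = v⁻¹ := by
          have h4 : v ^ 4 = 1 := hv ▸ pow_orderOf_eq_one v
          have hm4 : v ^ m = v ^ (m % 4) := by rw [← hv, pow_mod_orderOf]
          rcases (show m % 4 = 1 ∨ m % 4 = 3 by omega) with e | e <;> rw [e] at hm4
          · exact Or.inl (by rw [hm4, pow_one])
          · refine Or.inr (hm4.trans (eq_inv_of_mul_eq_one_left ?_))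
            rw [← pow_succ, h4]
        refine (hϕ _).2 fun hM => ?_
        rcases hpw with e | e
        · refine hout g (by rwa [e] at hmem) ?_
          convert hM using 2
          rw [e]
        · have hmem' : g⁻¹ * v * g ∈ (S : Subgroup G) := by
            have := inv_mem hmem
            rw [e] at this
            convert this using 1
            group
          refine hout g hmem' ?_
          convert inv_mem hM using 1
          refine Subtype.ext ?_
          show g⁻¹ * v * g = (g⁻¹ * v ^ m * g)⁻¹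
          rw [e]; group
    rw [Finset.prod_congr rfl fun q _ => key q, Finset.prod_pow_eq_pow_sum,
      ← index_eq_sum_minimalPeriod (S : Subgroup G) v]
    exact Odd.neg_one_pow (Nat.odd_iff.2 (Nat.two_dvd_ne_zero.1 S.not_dvd_index))
  have hker : (MonoidHom.transfer ϕ : G →* ℤˣ).ker.index = 2 := by
    have hr : (MonoidHom.transfer ϕ : G →* ℤˣ).range = ⊤ := by
      rw [eq_top_iff]
      intro x _
      rcases Int.units_eq_one_or x with rfl | rfl
      · exact one_mem _
      · exact ⟨v, htr⟩
    rw [index_ker, hr, Subgroup.card_top, Nat.card_eq_fintype_card, Fintype.card_units_int]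
  exact not_isSimple_of_index_two hna hker

/-- A self-centralizing element of order four in a simple group lies in a dihedral Sylow subgroup
of order eight. -/
theorem exists_hyp [IsSimpleGroup G] (hna : ¬ IsMulCommutative G) {v : G} (hv : orderOf v = 4)
    (hC : centralizer ({v} : Set G) = zpowers v) :
    ∃ (S : Sylow 2 G) (d : DP (S : Subgroup G)), Hyp d := by
  classical
  haveI : Fact (Nat.Prime 2) := ⟨Nat.prime_two⟩
  have hC4 : Nat.card (centralizer ({v} : Set G)) = 4 := by rw [hC, Nat.card_zpowers, hv]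
  obtain ⟨S, hS⟩ := (IsPGroup.of_card (p := 2) (n := 2) (by rw [Nat.card_zpowers, hv]; norm_num) :
    IsPGroup 2 (zpowers v)).exists_le_sylow
  have hvS : v ∈ (S : Subgroup G) := hS (mem_zpowers v)
  obtain ⟨n, hn⟩ := IsPGroup.iff_card.1 S.isPGroup'
  set A : Subgroup (S : Subgroup G) := zpowers ⟨v, hvS⟩ with hA
  have hAc : Nat.card A = 2 ^ 2 := by rw [Nat.card_zpowers, Subgroup.orderOf_mk, hv]; norm_num
  have hCA : centralizer (A : Set (S : Subgroup G)) = A := by
    refine le_antisymm (fun g hg => ?_) fun g hg => mem_centralizer_iff.2 fun a ha => ?_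
    · have hgv : (g : G) ∈ zpowers v := by
        rw [← hC]
        exact mem_centralizer_singleton_iff.2
          (congrArg Subtype.val ((mem_centralizer_iff.1 hg) _ (mem_zpowers _))).symm
      obtain ⟨i, hi⟩ := hgv
      exact ⟨i, Subtype.ext (by simpa using hi)⟩
    · obtain ⟨i, rfl⟩ := hg; obtain ⟨j, rfl⟩ := ha
      exact ((Commute.refl _).zpow_zpow j i).eq
  have hn2 : 2 ≤ n := by
    have h1 := Subgroup.card_subgroup_dvd_card A
    rw [hAc, hn] at h1
    exact (Nat.pow_dvd_pow_iff_le_right (by norm_num)).1 h1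
  rcases hn2.lt_or_eq with hn3 | hn2'
  swap
  · -- cyclic Sylow subgroup
    exfalso
    have htop : A = ⊤ := eq_top_of_card_eq A (by rw [hAc, hn, hn2'])
    have hcyc : IsCyclic (S : Subgroup G) := by
      refine ⟨⟨v, hvS⟩, fun g => ?_⟩
      exact (htop ▸ mem_top g : g ∈ A)
    have hs := CfsgLib.DGroup.isSolvable_of_isCyclic S hcyc
    exact hna ⟨⟨IsSimpleGroup.comm_iff_isSolvable.2 hs⟩⟩
  have hcl := CfsgLib.PGroups.maximalClass_of_centralizer_eq (p := 2) hn hAc hCA
  rcases CfsgLib.PGroups.maximalClass_two_classification hn3 hn hcl with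
    ⟨k, ⟨e⟩⟩ | ⟨k, hk, a, b, ha, hb, hba⟩ | ⟨k, ⟨e⟩⟩
  · haveI : NeZero (2 ^ (k + 2)) := ⟨pow_ne_zero _ two_ne_zero⟩
    obtain ⟨d⟩ := nonempty_dp S.isPGroup' (m := 2 ^ (k + 2))
      (Nat.le_self_pow (by omega) 2) e
    have hdn : 2 ≤ d.n := by
      have h1 := d.card_eq
      rw [Nat.card_congr e.toEquiv, DihedralGroup.nat_card] at h1
      have h2 : 2 ^ (k + 2) = 2 ^ d.n := by omega
      have := Nat.pow_right_injective le_rfl h2
      omega
    obtain ⟨i, hi⟩ : ∃ i : ℤ, v = d.x ^ i := by
      rcases d.cover v hvS with h | ⟨i, hi⟩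
      · exact h
      · have : orderOf v = 2 := hi ▸ d.orderOf_r i
        omega
    have hxC : d.x ∈ centralizer ({v} : Set G) := mem_centralizer_singleton_iff.2
      (by rw [hi]; exact ((Commute.refl d.x).zpow_right i).eq)
    have hxv : d.x ∈ zpowers v := hC ▸ hxC
    have hdn2 : d.n = 2 := by
      have h1 := Subgroup.card_dvd_of_le (zpowers_le.2 hxv)
      rw [Nat.card_zpowers, Nat.card_zpowers, d.orderOf_x, hv, show 4 = 2 ^ 2 by norm_num,
        Nat.pow_dvd_pow_iff_le_right (by norm_num)] at h1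
      omega
    refine ⟨S, d, hdn2, ?_, CfsgLib.DGroup.not_F2_of_simple hna d⟩
    refine le_antisymm (fun g hg => ?_) ?_
    · have hgv : g ∈ centralizer ({v} : Set G) := by
        refine mem_centralizer_singleton_iff.2 ?_
        rw [hi]
        exact ((show Commute g d.x from mem_centralizer_singleton_iff.1 hg).zpow_right i).eq
      rw [hC] at hgv
      exact zpowers_le.2 (hi ▸ zpow_mem (mem_zpowers d.x) i) hgv
    · rw [zpowers_le, mem_centralizer_singleton_iff]
  · exact (false_of_semidihedral hna S hk ha hb hba hv hC4.le).elim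
  · exfalso
    have h2 := Cfsg.Agent.S0201.result S k e fun N hN hodd => by
      rcases IsSimpleGroup.eq_bot_or_eq_top_of_normal N hN with h | h
      · exact h
      · exfalso
        rw [h, Subgroup.card_top] at hodd
        have h8 : 2 ∣ Nat.card G := (dvd_pow_self 2 (by omega : n ≠ 0)).trans
          (hn ▸ Subgroup.card_subgroup_dvd_card (S : Subgroup G))
        exact Nat.not_even_iff_odd.2 hodd (even_iff_two_dvd.2 h8)
    rcases IsSimpleGroup.eq_bot_or_eq_top_of_normal (center G) inferInstance with h | h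
    · rw [h, Subgroup.card_bot] at h2; norm_num at h2
    · exact hna ⟨⟨fun x y => mem_center_iff.1 (h ▸ mem_top y : y ∈ center G) x⟩⟩

/-- An involution whose centralizer is a four-group. -/
theorem card_eq_sixty_of_four [IsSimpleGroup G] (hna : ¬ IsMulCommutative G) {w : G}
    (hw : orderOf w = 2) (h4 : Nat.card (centralizer ({w} : Set G)) = 4)
    (h2 : ∀ g ∈ centralizer ({w} : Set G), g * g = 1) : Nat.card G = 60 := by
  classical
  haveI : Fact (Nat.Prime 2) := ⟨Nat.prime_two⟩
  set C := centralizer ({w} : Set G) with hCdef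
  have hwC : w ∈ C := mem_centralizer_singleton_iff.2 rfl
  obtain ⟨S, hS⟩ := (IsPGroup.of_card (p := 2) (n := 2) (by rw [h4]; norm_num) :
    IsPGroup 2 C).exists_le_sylow
  have hwS : w ∈ (S : Subgroup G) := hS hwC
  obtain ⟨n, hn⟩ := IsPGroup.iff_card.1 S.isPGroup'
  set A : Subgroup (S : Subgroup G) := C.subgroupOf (S : Subgroup G) with hA
  have hAc : Nat.card A = 2 ^ 2 := by
    rw [Nat.card_congr (subgroupOfEquivOfLe hS).toEquiv, h4]; norm_num
  have hCab : ∀ g ∈ C, ∀ g' ∈ C, g * g' = g' * g := fun g hg g' hg' => by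
    calc g * g' = (g * g')⁻¹ := eq_inv_of_mul_eq_one_left (h2 _ (mul_mem hg hg'))
      _ = g'⁻¹ * g⁻¹ := mul_inv_rev g g'
      _ = g' * g := by rw [inv_eq_of_mul_eq_one_right (h2 g hg), inv_eq_of_mul_eq_one_right (h2 g' hg')]
  have hCA : centralizer (A : Set (S : Subgroup G)) = A := by
    refine le_antisymm (fun g hg => ?_) fun g hg => mem_centralizer_iff.2 fun a ha => ?_
    · exact mem_centralizer_singleton_iff.2
        (congrArg Subtype.val ((mem_centralizer_iff.1 hg) ⟨w, hwS⟩ hwC)).symm
    · exact Subtype.ext (hCab _ ha _ hg)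
  have hn2 : 2 ≤ n := by
    have h1 := Subgroup.card_subgroup_dvd_card A
    rw [hAc, hn] at h1
    exact (Nat.pow_dvd_pow_iff_le_right (by norm_num)).1 h1
  rcases hn2.lt_or_eq with hn3 | hn2'
  · exfalso
    have hcl := CfsgLib.PGroups.maximalClass_of_centralizer_eq (p := 2) hn hAc hCA
    obtain ⟨c, t, hc, ht, hdec, -⟩ := CfsgLib.PGroups.maximalClass_two_structure hn3 hn hcl
    set Q := (zpowers c).map (S : Subgroup G).subtype with hQ
    have hQi : Q.relIndex (S : Subgroup G) = 2 := by
      have h1 := (zpowers c).card_mul_index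
      rw [Nat.card_zpowers, hc, hn, ← pow_sub_mul_pow (2 : ℕ) (show 1 ≤ n by omega), pow_one] at h1
      rw [relIndex, hQ, show ((zpowers c).map (S : Subgroup G).subtype).subgroupOf (S : Subgroup G) =
        zpowers c from comap_map_eq_self_of_injective (subtype_injective _) _]
      exact Nat.eq_of_mul_eq_mul_left (pow_pos (by norm_num) _) h1
    by_cases hno : ∀ g : G, g * w * g⁻¹ ∉ Q
    · obtain ⟨M, -, hMi, -⟩ :=
        CfsgLib.Transfer.exists_index_two_of_not_conj_mem S (map_subtype_le _) hQi hw hno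
      exact not_isSimple_of_index_two hna hMi
    push Not at hno
    obtain ⟨g, ⟨_, ⟨i, rfl⟩, hi⟩⟩ := hno
    have hcg : g⁻¹ * (c : G) * g ∈ C := by
      refine mem_centralizer_singleton_iff.2 ?_
      have e1 : (c : G) * (g * w * g⁻¹) = g * w * g⁻¹ * c := by
        rw [← hi]
        exact congrArg Subtype.val ((Commute.refl c).zpow_right i).eq
      calc g⁻¹ * (c : G) * g * w = g⁻¹ * ((c : G) * (g * w * g⁻¹)) * g := by group
        _ = _ := by rw [e1]; group
    have h5 : orderOf (g⁻¹ * (c : G) * g) ∣ 2 :=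
      orderOf_dvd_of_pow_eq_one (by rw [sq]; exact h2 _ hcg)
    rw [show g⁻¹ * (c : G) * g = (MulAut.conj g⁻¹) (c : G) by simp, MulEquiv.orderOf_eq,
      Subgroup.orderOf_coe, hc] at h5
    have := Nat.le_of_dvd (by norm_num) h5
    have : 2 ^ 2 ≤ 2 ^ (n - 1) := Nat.pow_le_pow_right (by norm_num) (by omega)
    omega
  · -- the Sylow subgroup is the four-group
    have hSC : C = (S : Subgroup G) := eq_of_le_of_card_ge hS (by rw [hn, ← hn2', h4]; norm_num)
    have h8 : ¬ 8 ∣ Nat.card G := by
      intro h8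
      have h1 := S.card_eq_multiplicity
      rw [hn, ← hn2'] at h1
      have h3 : 2 ^ 3 ∣ Nat.card G := by simpa using h8
      have := (Nat.Prime.pow_dvd_iff_le_factorization Nat.prime_two Nat.card_pos.ne').1 h3
      have h4' := Nat.pow_right_injective le_rfl h1
      omega
    obtain ⟨u, hu, huw, hu1⟩ : ∃ u ∈ C, u ≠ w ∧ u ≠ 1 := by
      by_contra hno
      push Not at hno
      have hle : C ≤ zpowers w := fun g hg => by
        by_cases hgw : g = w
        · exact hgw ▸ mem_zpowers w
        · rw [hno g hg hgw]; exact one_mem _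
      have := Subgroup.card_dvd_of_le hle
      rw [h4, Nat.card_zpowers, hw] at this
      norm_num at this
    have hou : orderOf u = 2 := invol_iff.2 ⟨h2 u hu, hu1⟩
    obtain ⟨T, e, hen, hez, her, hey, hex, hT⟩ := exists_dp_four hw hou
      (show Commute w u from hCab w hwC u hu) huw.symm h8
    have hTc : Nat.card (T : Subgroup G) = 4 := by rw [e.card_eq, hen]; norm_num
    have hTC : (T : Subgroup G) = C := by
      refine eq_of_le_of_card_ge ?_ (by rw [h4, hTc])
      rw [hT, closure_le]
      rintro _ (rfl | rfl)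
      · exact hwC
      · exact hu
    have hcen : CfsgLib.DGroup.Cen e ⊥ := by
      refine ⟨fun a ha b _ => ?_, by simp, fun a ha => ?_, fun a ha => ?_, ?_⟩
      · rw [mem_bot.1 ha]; exact Commute.one_left b
      · rw [mem_bot.1 ha]; exact Commute.one_right _
      · rw [mem_bot.1 ha, mul_one, mul_inv_cancel]; exact one_mem _
      · rw [hez, bot_sup_eq, hTC]
    have hT' := CfsgLib.DGroup.not_F2_of_simple hna e
    obtain ⟨hlo, hhi⟩ := hcen.bounds hT'
    have hcz : CfsgLib.DGroup.cz e = 4 := by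
      show Nat.card _ = 4
      rw [hcen.card_cent, Subgroup.card_bot, one_mul, hTc]
    have hce : CfsgLib.DGroup.ce e = 4 := by
      show Nat.card _ = 4
      rw [hcen.card_pair 0, bot_inf_eq, Subgroup.card_bot, mul_one]
    rw [hcz, hce] at hlo hhi
    have h60 : 60 ≤ Nat.card G := by
      by_contra hlt
      push Not at hlt
      have hs := CfsgLib.Recog.isSolvable_of_card_lt_sixty hlt
      exact hna ⟨⟨IsSimpleGroup.comm_iff_isSolvable.2 hs⟩⟩
    obtain ⟨q, hq⟩ : 4 ∣ Nat.card G := h4 ▸ Subgroup.card_subgroup_dvd_card C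
    have hqo : q % 2 = 1 := Nat.two_dvd_ne_zero.1 fun ⟨l, hl⟩ => h8 ⟨l, by omega⟩
    by_contra hne
    have h68 : Nat.card G = 68 := by omega
    haveI : Fact (Nat.Prime 17) := ⟨by norm_num⟩
    obtain ⟨Q⟩ : Nonempty (Sylow 17 G) := inferInstance
    have hQc : Nat.card (Q : Subgroup G) = 17 := by
      rw [Q.card_eq_multiplicity, h68]
      have : (68 : ℕ).factorization 17 = 1 := by
        rw [show (68 : ℕ) = 17 ^ 1 * 4 by norm_num,
          Nat.factorization_mul (by norm_num) (by norm_num), Finsupp.add_apply,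
          Nat.Prime.factorization_pow (by norm_num), Finsupp.single_eq_same,
          Nat.factorization_eq_zero_of_not_dvd (by norm_num : ¬ 17 ∣ 4)]
      rw [this, pow_one]
    have hd : Nat.card (Sylow 17 G) ∣ 4 := by
      have h5 := (Q : Subgroup G).card_mul_index
      rw [hQc, h68] at h5
      rw [show 4 = (Q : Subgroup G).index by omega]
      exact Q.card_dvd_index
    have hm := card_sylow_modEq_one 17 G
    have h1 : Nat.card (Sylow 17 G) = 1 := by
      have := Nat.le_of_dvd (by norm_num) hd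
      unfold Nat.ModEq at hm
      omega
    haveI : Subsingleton (Sylow 17 G) := (Nat.card_eq_one_iff_unique.1 h1).1
    rcases IsSimpleGroup.eq_bot_or_eq_top_of_normal _ (Sylow.normal_of_subsingleton Q) with h | h
    · rw [h, Subgroup.card_bot] at hQc; norm_num at hQc
    · rw [h, Subgroup.card_top, h68] at hQc; norm_num at hQc

end CfsgLib.CentFour
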